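import Mathlib
import Cfsg.Agent.Lib.Frobenius.FPF
import Cfsg.Agent.Lib.UniqueInvolution.Basic
import Cfsg.Agent.Lib.PUnique.Basic

/-!
Finite groups in which every element has order at most five: elementary facts.
-/

set_option autoImplicit false

namespace Cfsg.Agent.Lib.SpecFive

/-- Every element has order at most five. -/
def P5 (G : Type*) [Group G] : Prop := ∀ g : G, orderOf g ≤ 5

variable {G : Type*} [Group G] [Finite G]

omit [Finite G] in
theorem P5.subgroup (h : P5 G) (H : Subgroup G) : P5 H := fun x => by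
  rw [← Subgroup.orderOf_coe]; exact h x

theorem P5.quotient (h : P5 G) (N : Subgroup G) [N.Normal] : P5 (G ⧸ N) := by
  intro x
  obtain ⟨g, rfl⟩ := QuotientGroup.mk_surjective x
  exact (Nat.le_of_dvd (orderOf_pos g) (orderOf_map_dvd (QuotientGroup.mk' N) g)).trans (h g)

theorem order_cases (h : P5 G) (g : G) :
    orderOf g = 1 ∨ orderOf g = 2 ∨ orderOf g = 3 ∨ orderOf g = 4 ∨ orderOf g = 5 := by
  have := h g
  have := orderOf_pos g
  omega

theorem prime_cases (h : P5 G) {p : ℕ} (hp : p.Prime) (hd : p ∣ Nat.card G) :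
    p = 2 ∨ p = 3 ∨ p = 5 := by
  have := Fact.mk hp
  obtain ⟨g, hg⟩ := exists_prime_orderOf_dvd_card' (G := G) p hd
  have h2 := hp.two_le
  rcases order_cases h g with e | e | e | e | e <;> rw [hg] at e <;> subst e <;>
    first | omega | exact absurd hp (by norm_num)

/-- Commuting elements whose orders are divisible by different primes do not exist. -/
theorem false_of_commute (h : P5 G) {a b : G} {p q : ℕ} (hp : p.Prime) (hq : q.Prime)
    (hpq : p ≠ q) (ha : p ∣ orderOf a) (hb : q ∣ orderOf b) (hab : Commute a b) : False := by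
  have ha' : orderOf (a ^ (orderOf a / p)) = p := orderOf_pow_orderOf_div (orderOf_pos a).ne' ha
  have hb' : orderOf (b ^ (orderOf b / q)) = q := orderOf_pow_orderOf_div (orderOf_pos b).ne' hb
  have h1 := (hab.pow_pow (orderOf a / p) (orderOf b / q)).orderOf_mul_eq_mul_orderOf_of_coprime
    (by rw [ha', hb']; exact (Nat.coprime_primes hp hq).mpr hpq)
  rw [ha', hb'] at h1
  have h5 := h (a ^ (orderOf a / p) * b ^ (orderOf b / q))
  rw [h1] at h5
  have := hp.two_le
  have := hq.two_le
  rcases Nat.lt_or_ge p q with hlt | hge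
  · have : 2 * 3 ≤ p * q := Nat.mul_le_mul hp.two_le (by omega)
    omega
  · have : 3 * 2 ≤ p * q := Nat.mul_le_mul (by omega) hq.two_le
    omega

theorem prime_dvd_orderOf {p : ℕ} {H : Subgroup G} (hH : IsPGroup p H) [hp : Fact p.Prime]
    {x : G} (hx : x ∈ H) (hx1 : x ≠ 1) : p ∣ orderOf x := by
  obtain ⟨k, hk⟩ := IsPGroup.iff_orderOf.mp hH ⟨x, hx⟩
  rw [Subgroup.orderOf_mk] at hk
  rcases Nat.eq_zero_or_pos k with rfl | hk0
  · exact absurd (orderOf_eq_one_iff.mp (by simpa using hk)) hx1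
  · rw [hk]; exact dvd_pow_self p hk0.ne'

/-- A nonidentity element of prime-power order has only commuting elements of the same kind. -/
theorem eq_one_of_commute (h : P5 G) {p q : ℕ} [hp : Fact p.Prime] [hq : Fact q.Prime]
    (hpq : p ≠ q) {A B : Subgroup G} (hA : IsPGroup p A) (hB : IsPGroup q B)
    {a b : G} (ha : a ∈ A) (hb : b ∈ B) (ha1 : a ≠ 1) (hab : Commute a b) : b = 1 := by
  by_contra hb1
  exact false_of_commute h hp.out hq.out hpq (prime_dvd_orderOf hA ha ha1)
    (prime_dvd_orderOf hB hb hb1) hab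

/-- A subgroup centralising a nonidentity `p`-element is a `p`-group. -/
theorem isPGroup_of_centralizes (h : P5 G) {p : ℕ} [hp : Fact p.Prime] {a : G}
    (ha : p ∣ orderOf a) {H : Subgroup G} (hH : ∀ x ∈ H, Commute a x) : IsPGroup p H := by
  obtain ⟨n, hn⟩ : ∃ n, Nat.card H = p ^ n := by
    refine ⟨(Nat.card H).factorization p, ?_⟩
    refine (Nat.eq_of_dvd_of_div_eq_one (Nat.ordProj_dvd _ _) ?_).symm
    by_contra hne
    obtain ⟨q, hq, hqd⟩ := Nat.exists_prime_and_dvd hne
    have := Fact.mk hq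
    have hqp : q ≠ p := fun e => Nat.not_dvd_ordCompl hp.out Nat.card_pos.ne' (e ▸ hqd)
    obtain ⟨x, hx⟩ := exists_prime_orderOf_dvd_card' (G := H) q
      (hqd.trans (Nat.ordCompl_dvd _ _))
    exact false_of_commute h hp.out hq hqp.symm ha
      (by rw [Subgroup.orderOf_coe, hx]) (hH x x.2)
  exact IsPGroup.of_card hn

theorem orderOf_eq_of_odd (h : P5 G) {p : ℕ} (hp : p = 3 ∨ p = 5) {x : G} (hx : p ∣ orderOf x) :
    orderOf x = p := by
  have h5 := h x
  rcases order_cases h x with e | e | e | e | e <;> rw [e] at hx ⊢ <;>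
    rcases hp with rfl | rfl <;> revert hx <;> decide

theorem pow_four_eq_one (h : P5 G) {x : G} (hx : 2 ∣ orderOf x) : x ^ 4 = 1 := by
  rcases order_cases h x with e | e | e | e | e <;> rw [e] at hx <;>
    first
    | omega
    | exact orderOf_dvd_iff_pow_eq_one.mp (by norm_num [e])

/-- An odd `p`-group acting by conjugation on a nontrivial group of coprime prime power order
has order at most `p`. -/
theorem card_le_prime (h : P5 G) {p q : ℕ} [hp : Fact p.Prime] [hq : Fact q.Prime] (hpq : p ≠ q)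
    (hp35 : p = 3 ∨ p = 5) (P A : Subgroup G) (hP : IsPGroup p P) (hA : IsPGroup q A)
    (hne : A ≠ ⊥) (hnorm : P ≤ Subgroup.normalizer (A : Set G)) : Nat.card P ≤ p := by
  by_contra hlt
  push Not at hlt
  let Z : Subgroup G := (Subgroup.center A).map A.subtype
  have hZA : Z ≤ A := Subgroup.map_subtype_le _
  have hZne : Z ≠ ⊥ := by
    have : Nontrivial A := (Subgroup.nontrivial_iff_ne_bot A).mpr hne
    have := hA.center_nontrivial
    exact fun e => (Subgroup.nontrivial_iff_ne_bot _).mp this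
      ((Subgroup.map_eq_bot_iff_of_injective _ A.subtype_injective).mp e)
  have hZc : ∀ a ∈ Z, ∀ b ∈ A, a * b = b * a := by
    rintro _ ⟨a, ha, rfl⟩ b hb
    exact congrArg Subtype.val (Subgroup.mem_center_iff.mp ha ⟨b, hb⟩).symm
  have hnZ : P ≤ Subgroup.normalizer (Z : Set G) := by
    intro x hx
    have hxA := Subgroup.mem_normalizer_iff.mp (hnorm hx)
    rw [Subgroup.mem_normalizer_iff]
    have key : ∀ y : G, y ∈ P → ∀ z ∈ Z, y * z * y⁻¹ ∈ Z := by
      intro y hy z hz
      have hyA := Subgroup.mem_normalizer_iff.mp (hnorm hy)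
      refine ⟨⟨y * z * y⁻¹, (hyA z).mp (hZA hz)⟩, ?_, rfl⟩
      refine Subgroup.mem_center_iff.mpr fun b => Subtype.ext ?_
      change (b : G) * (y * z * y⁻¹) = y * z * y⁻¹ * b
      have hb : y⁻¹ * (b : G) * y ∈ A := by
        have := (Subgroup.mem_normalizer_iff.mp (hnorm (inv_mem hy)) (b : G)).mp b.2
        rwa [inv_inv] at this
      calc (b : G) * (y * z * y⁻¹) = y * ((y⁻¹ * b * y) * z) * y⁻¹ := by group
        _ = y * (z * (y⁻¹ * b * y)) * y⁻¹ := by rw [hZc z hz _ hb]
        _ = y * z * y⁻¹ * b := by group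
    exact fun z => ⟨key x hx z, fun hz => by
      simpa [mul_assoc] using key x⁻¹ (inv_mem hx) _ hz⟩
  let _ : CommGroup Z := { (inferInstance : Group Z) with
    mul_comm := fun a b => Subtype.ext (hZc a a.2 b (hZA b.2)) }
  let _ : MulDistribMulAction P Z := Frobenius.FPF.conjAction P Z hnZ
  have hfpf : Frobenius.FPF.IsFPF P Z := by
    intro a ha v hv
    have e : (a : G) * v * (a : G)⁻¹ = v := congrArg Subtype.val hv
    exact Subtype.ext (eq_one_of_commute h hpq hP hA a.2 (hZA v.2)
      (fun e1 => ha (Subtype.ext e1)) (mul_inv_eq_iff_eq_mul.mp e))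
  have : Nontrivial P := Finite.one_lt_card_iff_nontrivial.mp (hp.out.one_lt.trans hlt)
  have hexp : ∀ x : P, x ^ p = 1 := fun x => by
    by_cases hx : x = 1
    · rw [hx, one_pow]
    · have := orderOf_eq_of_odd h hp35
        (prime_dvd_orderOf hP x.2 (fun e => hx (Subtype.ext e)))
      rw [Subgroup.orderOf_coe] at this
      exact orderOf_dvd_iff_pow_eq_one.mp this.dvd
  obtain ⟨z, hz, hz1⟩ := (Subgroup.nontrivial_iff_exists_ne_one _).mp hP.center_nontrivial
  have hcz : Nat.card (Subgroup.zpowers z) = p := by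
    rw [Nat.card_zpowers]; exact orderOf_eq_prime (hexp z) hz1
  obtain ⟨y, hy⟩ : ∃ y : P, y ∉ Subgroup.zpowers z := by
    by_contra hall
    push Not at hall
    rw [(Subgroup.eq_top_iff' _).mpr hall, Subgroup.card_top] at hcz
    omega
  obtain ⟨v, hv1⟩ := Subgroup.ne_bot_iff_exists_ne_one.mp hZne
  have hvp := Frobenius.FPF.pow_prime_eq_one hfpf hp.out (hexp y) (hexp z) hz1
    (Subgroup.mem_center_iff.mp hz y) hy v
  have h1 : p ∣ orderOf (v : G) := by
    have : orderOf v = p := orderOf_eq_prime hvp hv1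
    rw [Subgroup.orderOf_coe, this]
  have h2 : q ∣ orderOf (v : G) :=
    prime_dvd_orderOf hA (hZA v.2) (fun e => hv1 (Subtype.ext e))
  exact hpq ((Nat.prime_dvd_prime_iff_eq hq.out hp.out).mp
    (by rwa [orderOf_eq_of_odd h hp35 h1] at h2)).symm

theorem exists_mem_ne_one {K : Type*} [Group K] {H : Subgroup K} (hH : H ≠ ⊥) : ∃ a ∈ H, a ≠ 1 := by
  obtain ⟨⟨a, ha⟩, ha1⟩ := Subgroup.ne_bot_iff_exists_ne_one.mp hH
  exact ⟨a, ha, fun e => ha1 (Subtype.ext e)⟩

theorem orderOf_mem_card_prime {K : Type*} [Group K] [Finite K] {H : Subgroup K} {p : ℕ}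
    (hp : p.Prime) (hH : Nat.card H = p) {a : K} (ha : a ∈ H) (ha1 : a ≠ 1) : orderOf a = p :=
  (hp.eq_one_or_self_of_dvd _ (hH ▸ Subgroup.orderOf_dvd_natCard H ha)).resolve_left
    (fun e => ha1 (orderOf_eq_one_iff.mp e))

/-- A `2`-group with at most one involution and no element of order `8` has order `1, 2, 4` or `8`. -/
theorem card_of_unique_involution {K : Type*} [Group K] [Finite K] (hK : IsPGroup 2 K)
    (h : P5 K) (hu : ∀ a b : K, orderOf a = 2 → orderOf b = 2 → a = b) :
    Nat.card K = 1 ∨ Nat.card K = 2 ∨ Nat.card K = 4 ∨ Nat.card K = 8 := by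
  obtain ⟨n, hn⟩ := IsPGroup.iff_card.mp hK
  suffices n ≤ 3 by
    interval_cases n <;> simp_all
  by_cases hc : IsMulCommutative K
  · have huniq : ∀ H L : Subgroup K, Nat.card H = 2 → Nat.card L = 2 → H = L := by
      intro H L hH hL
      obtain ⟨a, ha, ha1⟩ := exists_mem_ne_one (H := H) (fun e => by simp [e] at hH)
      obtain ⟨b, hb, hb1⟩ := exists_mem_ne_one (H := L) (fun e => by simp [e] at hL)
      have hab : a = b := hu a b (orderOf_mem_card_prime Nat.prime_two hH ha ha1) (orderOf_mem_card_prime Nat.prime_two hL hb hb1)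
      have hoa := orderOf_mem_card_prime Nat.prime_two hH ha ha1
      have e1 : Subgroup.zpowers a = H :=
        Subgroup.eq_of_le_of_card_ge (Subgroup.zpowers_le.mpr ha)
          (by rw [Nat.card_zpowers, hoa, hH])
      have e2 : Subgroup.zpowers b = L :=
        Subgroup.eq_of_le_of_card_ge (Subgroup.zpowers_le.mpr hb)
          (by rw [Nat.card_zpowers, orderOf_mem_card_prime Nat.prime_two hL hb hb1, hL])
      rw [← e1, ← e2, hab]
    have : Fact (Nat.Prime 2) := ⟨Nat.prime_two⟩
    have hcyc := PUnique.isCyclic_of_isMulCommutative hK huniq ⊤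
    obtain ⟨g, hg⟩ := IsCyclic.exists_ofOrder_eq_natCard (α := (⊤ : Subgroup K))
    rw [Subgroup.card_top] at hg
    have := (h.subgroup ⊤) g
    rw [hg, hn] at this
    by_contra hlt
    have : 2 ^ 4 ≤ 2 ^ n := Nat.pow_le_pow_right (by norm_num) (by omega)
    omega
  · obtain ⟨m, a, hm, ha, hi, -⟩ := UniqueInvolution.exists_quaternion_gen hK hu hc
    have h5 := h a
    rw [ha] at h5
    have hm2 : m = 2 := by
      by_contra hne
      have : 2 ^ 3 ≤ 2 ^ m := Nat.pow_le_pow_right (by norm_num) (by omega)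
      omega
    subst hm2
    have := (Subgroup.zpowers a).card_mul_index
    rw [Nat.card_zpowers, ha, hi, hn] at this
    by_contra hlt
    have : 2 ^ 4 ≤ 2 ^ n := Nat.pow_le_pow_right (by norm_num) (by omega)
    omega

end Cfsg.Agent.Lib.SpecFive
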