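import Cfsg.Agent.Lib.SpecFive.Intersect

/-!
The number of elements of order two or four in each of the configurations.
-/

set_option autoImplicit false

open scoped Pointwise

namespace Cfsg.Agent.Lib.SpecFive

universe u

variable {G : Type u} [Group G] [Finite G]

/-- A group with a normal nontrivial Sylow 2-subgroup. -/
theorem index_normal_sylow {K : Type u} [Group K] [Finite K] (h : P5 K) (S : Sylow 2 K)
    (hn : (S : Subgroup K).Normal) (hne : (S : Subgroup K) ≠ ⊥) :
    ((S : Subgroup K).index = 1 ∨ (S : Subgroup K).index = 3 ∨ (S : Subgroup K).index = 5) ∧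
      (S : Subgroup K).index ∣ Nat.card (S : Subgroup K) - 1 := by
  classical
  have : Fact (Nat.Prime 2) := ⟨Nat.prime_two⟩
  obtain ⟨H, hH⟩ := Subgroup.exists_right_complement'_of_coprime (N := (S : Subgroup K))
    S.card_coprime_index
  rw [hH.symm.index_eq_card]
  have hodd : ¬ 2 ∣ Nat.card H := fun hd => by
    rw [← hH.symm.index_eq_card] at hd
    exact S.not_dvd_index hd
  refine ⟨?_, ?_⟩
  · have hdvd : Nat.card H ∣ 15 := by
      rw [Nat.dvd_iff_prime_pow_dvd_dvd]
      intro p n hp hpn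
      rcases Nat.eq_zero_or_pos n with rfl | hn0
      · simp
      have := Fact.mk hp
      have hpd : p ∣ Nat.card H := (dvd_pow_self p hn0.ne').trans hpn
      have hp35 : p = 3 ∨ p = 5 := by
        rcases prime_cases h hp (hpd.trans (Subgroup.card_subgroup_dvd_card H)) with e | e
        · exact absurd (e ▸ hpd) hodd
        · exact e
      obtain ⟨P⟩ : Nonempty (Sylow p K) := inferInstance
      have hP := card_le_prime h (p := p) (q := 2) (by omega) hp35 P S P.2 S.2 hne
        (by rw [Subgroup.normalizer_eq_top_iff.mpr hn]; exact le_top)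
      have hle : p ^ n ≤ p ^ 1 := by
        rw [pow_one]
        exact (Nat.le_of_dvd Nat.card_pos (P.pow_dvd_card_of_pow_dvd_card
          (hpn.trans (Subgroup.card_subgroup_dvd_card H)))).trans hP
      have hn1 : n = 1 := by
        have := (Nat.pow_le_pow_iff_right hp.one_lt).mp hle
        omega
      rcases hp35 with rfl | rfl <;> subst hn1 <;> norm_num
    have h15 : Nat.card H ≠ 15 := by
      intro e
      have : Fact (Nat.Prime 5) := ⟨Nat.prime_five⟩
      obtain ⟨R⟩ : Nonempty (Sylow 5 H) := inferInstance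
      have hR5 : Nat.card (R : Subgroup H) = 5 := by
        obtain ⟨n, hn⟩ := IsPGroup.iff_card.mp R.2
        have h1 : 5 ∣ Nat.card (R : Subgroup H) := by
          simpa using R.pow_dvd_card_of_pow_dvd_card (n := 1) (by rw [e]; norm_num)
        have h2 : Nat.card (R : Subgroup H) ∣ 15 := e ▸ Subgroup.card_subgroup_dvd_card _
        have h3 := Nat.le_of_dvd (by norm_num) h2
        rw [hn] at h1 h2 h3 ⊢
        have : n ≤ 1 := by
          by_contra hlt
          have : 5 ^ 2 ≤ 5 ^ n := Nat.pow_le_pow_right (by norm_num) (by omega)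
          omega
        interval_cases n <;> simp_all (config := { decide := true })
      have hidx : (R : Subgroup H).index = 3 := by
        have := (R : Subgroup H).card_mul_index
        rw [hR5, e] at this
        omega
      have hn5 := hidx ▸ R.card_dvd_index
      have hm := card_sylow_modEq_one 5 H
      have hsub : Nat.card (Sylow 5 H) = 1 := by
        rcases (Nat.dvd_prime Nat.prime_three).mp hn5 with e1 | e1
        · exact e1
        · rw [e1] at hm; exact absurd hm (by decide)
      have := (Nat.card_eq_one_iff_unique.mp hsub).1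
      have hRn : (R : Subgroup H).Normal := Sylow.normal_of_subsingleton R
      obtain ⟨P, -, -, hdvd'⟩ := odd_core (h.subgroup H) (p := 5) (Or.inr rfl) (R : Subgroup H) R.2
        (R.ne_bot_of_dvd_card (by rw [e]; norm_num))
      rw [Subsingleton.elim P R, hidx, hR5] at hdvd'
      norm_num at hdvd'
    have hle := Nat.le_of_dvd (by norm_num) hdvd
    generalize Nat.card H = e at *
    interval_cases e <;> simp_all (config := { decide := true })
  · rw [← card_ne_one]
    let X : Set K := {x : K | x ∈ (S : Subgroup K) ∧ x ≠ 1}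
    let _ : MulAction H X :=
      { smul := fun k y => ⟨(k : K) * y * (k : K)⁻¹, hn.conj_mem _ y.2.1 _,
          fun e => y.2.2 (conj_eq_one_iff.mp e)⟩
        one_smul := fun y => Subtype.ext (by
          show ((1 : H) : K) * y * ((1 : H) : K)⁻¹ = y
          simp)
        mul_smul := fun k l y => Subtype.ext (by
          show ((k * l : H) : K) * y * ((k * l : H) : K)⁻¹ =
            (k : K) * ((l : K) * y * (l : K)⁻¹) * (k : K)⁻¹
          simp [mul_assoc]) }
    refine card_dvd_of_free (X := X) fun k y hy => ?_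
    by_contra hk
    have e : (k : K) * y * (k : K)⁻¹ = y := congrArg Subtype.val hy
    obtain ⟨p, hp, hpd⟩ := Nat.exists_prime_and_dvd
      (show orderOf (k : K) ≠ 1 from fun e1 => hk (Subtype.ext (orderOf_eq_one_iff.mp e1)))
    refine false_of_commute h hp Nat.prime_two (fun e2 => ?_) hpd
      (prime_dvd_orderOf S.2 y.2.1 y.2.2) (mul_inv_eq_iff_eq_mul.mp e)
    subst e2
    exact hodd (hpd.trans (by rw [Subgroup.orderOf_coe]; exact orderOf_dvd_natCard k))

/-- The normalizer of a nontrivial Sylow 2-subgroup. -/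
theorem card_norm_sylow (h : P5 G) (S : Sylow 2 G) (hne : (S : Subgroup G) ≠ ⊥) :
    ∃ e, Nat.card ↥(Subgroup.normalizer ((S : Subgroup G) : Set G)) =
        Nat.card (S : Subgroup G) * e ∧
      (e = 1 ∨ e = 3 ∨ e = 5) ∧ e ∣ Nat.card (S : Subgroup G) - 1 := by
  set N := Subgroup.normalizer ((S : Subgroup G) : Set G) with hN
  have hle : (S : Subgroup G) ≤ N := Subgroup.le_normalizer
  have hn : ((S.subtype hle : Sylow 2 N) : Subgroup N).Normal := ⟨fun y hy g => by
    rw [Sylow.coe_subtype, Subgroup.mem_subgroupOf] at hy ⊢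
    simpa using (Subgroup.mem_normalizer_iff.mp g.2 (y : G)).mp hy⟩
  have hc : Nat.card (S.subtype hle : Subgroup N) = Nat.card (S : Subgroup G) :=
    Nat.card_congr (Subgroup.subgroupOfEquivOfLe hle).toEquiv
  have hne' : ((S.subtype hle : Sylow 2 N) : Subgroup N) ≠ ⊥ := fun e => hne
    (Subgroup.eq_bot_of_card_eq _ (by rw [← hc, e, Subgroup.card_bot]))
  obtain ⟨h1, h2⟩ := index_normal_sylow (h.subgroup N) (S.subtype hle) hn hne'
  rw [hc] at h2
  exact ⟨_, by rw [← hc]; exact (Subgroup.card_mul_index _).symm, h1, h2⟩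

/-- Conjugates of a subset of `S` lying in no other Sylow 2-subgroup. -/
theorem card_conj_sylow (S : Sylow 2 G) (X : Set G)
    (hsub : ∀ x ∈ X, x ∈ (S : Subgroup G))
    (hinv : ∀ n ∈ Subgroup.normalizer ((S : Subgroup G) : Set G), ∀ x ∈ X, n * x * n⁻¹ ∈ X)
    (hot : ∀ R : Sylow 2 G, R ≠ S → ∀ x ∈ X, x ∉ (R : Subgroup G)) :
    Nat.card {y : G // ∃ g : G, g * y * g⁻¹ ∈ X} =
      (Subgroup.normalizer ((S : Subgroup G) : Set G)).index * Nat.card X := by
  refine card_conj_union X _ hinv fun g x hx hgx => Sylow.smul_eq_iff_mem_normalizer.mp ?_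
  by_contra hne
  refine hot _ hne _ hgx ?_
  rw [Sylow.coe_subgroup_smul]
  exact Subgroup.smul_mem_pointwise_smul x (MulAut.conj g) _ (hsub x hx)

/-- Elements of order two or four. -/
theorem even_iff (h : P5 G) (S : Sylow 2 G) (y : G) :
    (orderOf y = 2 ∨ orderOf y = 4) ↔
      ∃ g : G, g * y * g⁻¹ ∈ (S : Subgroup G) ∧ g * y * g⁻¹ ≠ 1 := by
  have : Fact (Nat.Prime 2) := ⟨Nat.prime_two⟩
  constructor
  · intro hy
    have hz : IsPGroup 2 (Subgroup.zpowers y) := by
      rcases hy with e | e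
      · exact IsPGroup.of_card (n := 1) (by rw [Nat.card_zpowers, e, pow_one])
      · exact IsPGroup.of_card (n := 2) (by rw [Nat.card_zpowers, e]; norm_num)
    obtain ⟨R, hR⟩ := hz.exists_le_sylow
    obtain ⟨g, hg⟩ := MulAction.exists_smul_eq G R S
    refine ⟨g, ?_, fun e => ?_⟩
    · rw [← hg, Sylow.coe_subgroup_smul]
      exact Subgroup.smul_mem_pointwise_smul y (MulAut.conj g) _ (hR (Subgroup.mem_zpowers y))
    · rw [conj_eq_one_iff.mp e, orderOf_one] at hy
      omega
  · rintro ⟨g, hg, hg1⟩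
    have h1 := prime_dvd_orderOf S.2 hg hg1
    rw [← MulAut.conj_apply, MulEquiv.orderOf_eq] at h1
    have := order_cases h y
    omega

/-- No nontrivial intersections. -/
theorem count_ti (h : P5 G) (S : Sylow 2 G)
    (hti : ∀ R : Sylow 2 G, R ≠ S → (S : Subgroup G) ⊓ (R : Subgroup G) = ⊥) :
    Nat.card {y : G // orderOf y = 2 ∨ orderOf y = 4} =
      (Subgroup.normalizer ((S : Subgroup G) : Set G)).index *
        (Nat.card (S : Subgroup G) - 1) := by
  rw [← card_ne_one, ← card_conj_sylow]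
  · exact Nat.card_congr (Equiv.subtypeEquivRight fun y => even_iff h S y)
  · exact fun x hx => hx.1
  · rintro n hn x ⟨hx, hx1⟩
    exact ⟨(Subgroup.mem_normalizer_iff.mp hn x).mp hx, fun e => hx1 (conj_eq_one_iff.mp e)⟩
  · rintro R hR x ⟨hx, hx1⟩ hxR
    exact hx1 (Subgroup.mem_bot.mp (hti R hR ▸ ⟨hx, hxR⟩))

/-- A unique special subgroup. -/
theorem count_unique (h : P5 G) {S : Sylow 2 G} {D : Subgroup G} {k q : ℕ} (hD : Special S D)
    (hd : Data S D k q) (huniq : ∀ D' E' : Subgroup G, Special S D' → Special S E' → D' = E') :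
    q * Nat.card ↥(Subgroup.normalizer ((S : Subgroup G) : Set G)) =
        Nat.card ↥(Subgroup.normalizer (D : Set G)) ∧
    Nat.card {y : G // orderOf y = 2 ∨ orderOf y = 4} =
      (Subgroup.normalizer (D : Set G)).index * (Nat.card D - 1) +
      (Subgroup.normalizer ((S : Subgroup G) : Set G)).index *
        (Nat.card (S : Subgroup G) - Nat.card D) := by
  classical
  have : Fact (Nat.Prime 2) := ⟨Nat.prime_two⟩
  set N := Subgroup.normalizer (D : Set G) with hNdef
  set NS := Subgroup.normalizer ((S : Subgroup G) : Set G) with hNSdef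
  have huat : ∀ (R : Sylow 2 G) (D' E' : Subgroup G), Special R D' → Special R E' → D' = E' := by
    intro R D' E' h1 h2
    obtain ⟨g, rfl⟩ := MulAction.exists_smul_eq G R S
    exact MulAction.injective (MulAut.conj g) (huniq _ _ (h1.smul g) (h2.smul g))
  have hint : ∀ R : Sylow 2 G, R ≠ S → (S : Subgroup G) ⊓ (R : Subgroup G) ≤ D := by
    intro R hR
    by_cases hb : (S : Subgroup G) ⊓ (R : Subgroup G) = ⊥
    · rw [hb]; exact bot_le
    · obtain ⟨D', hD', hle⟩ := exists_special hR hb
      exact huniq D D' hD hD' ▸ hle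
  have hspec : ∀ R : Sylow 2 G, D ≤ (R : Subgroup G) → Special R D := by
    intro R hR
    obtain ⟨n, hn, rfl⟩ := hd.conj R hR
    have := hD.smul n
    rwa [conj_smul_eq_of_mem hn] at this
  have hNS : NS ≤ N := fun g hg => mem_normalizer_of_conj_smul_eq (by
    refine huat S _ _ ?_ hD
    have := hD.smul g
    rwa [Sylow.smul_eq_iff_mem_normalizer.mpr hg] at this)
  refine ⟨?_, ?_⟩
  · rw [← hd.number]
    have horb : Nat.card {R : Sylow 2 G // D ≤ (R : Subgroup G)} = NS.relIndex N := by
      have e : MulAction.stabilizer N S = NS.subgroupOf N := by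
        ext n
        rw [MulAction.mem_stabilizer_iff, Subgroup.mem_subgroupOf]
        exact Sylow.smul_eq_iff_mem_normalizer
      rw [Subgroup.relIndex, ← e, MulAction.index_stabilizer, ← Nat.card_coe_set_eq]
      refine Nat.card_congr (Equiv.subtypeEquivRight fun R => ⟨fun hR => ?_, ?_⟩)
      · obtain ⟨n, hn, rfl⟩ := hd.conj R hR
        exact ⟨⟨n, hn⟩, rfl⟩
      · rintro ⟨n, rfl⟩
        show D ≤ (((n : G) • S : Sylow 2 G) : Subgroup G)
        rw [Sylow.coe_subgroup_smul, ← conj_smul_eq_of_mem n.2]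
        exact Subgroup.pointwise_smul_le_pointwise_smul_iff.mpr hD.le
    rw [horb, mul_comm, ← Subgroup.relIndex_bot_left NS, ← Subgroup.relIndex_bot_left N]
    exact Subgroup.relIndex_mul_relIndex _ _ _ bot_le hNS
  · let X : Set G := ((S : Subgroup G) : Set G) \ (D : Set G)
    have hX : Nat.card X = Nat.card (S : Subgroup G) - Nat.card D := by
      rw [Nat.card_coe_set_eq, Set.ncard_diff (fun x hx => hD.le hx), ← Nat.card_coe_set_eq,
        ← Nat.card_coe_set_eq]
      rfl
    have hXot : ∀ R : Sylow 2 G, R ≠ S → ∀ x ∈ X, x ∉ (R : Subgroup G) := fun R hR x hx hxR =>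
      hx.2 (hint R hR ⟨hx.1, hxR⟩)
    rw [← card_ne_one, ← hX, ← card_conj_sylow S X (fun x hx => hx.1) ?_ hXot,
      ← card_conj_union]
    · let A : Set G := {y | ∃ g : G, g * y * g⁻¹ ∈ {x : G | x ∈ D ∧ x ≠ 1}}
      let B : Set G := {y | ∃ g : G, g * y * g⁻¹ ∈ X}
      have hdisj : Disjoint A B := by
        rw [Set.disjoint_left]
        rintro y ⟨g, hgD, -⟩ ⟨g', hg'X⟩
        set z := g * y * g⁻¹ with hz
        have e : g' * g⁻¹ * z * (g' * g⁻¹)⁻¹ = g' * y * g'⁻¹ := by rw [hz]; group
        by_cases hR : (g' * g⁻¹) • S = S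
        · refine hg'X.2 ?_
          rw [← e]
          exact (Subgroup.mem_normalizer_iff.mp
            (hNS (Sylow.smul_eq_iff_mem_normalizer.mp hR)) z).mp hgD
        · refine hXot _ hR _ hg'X ?_
          rw [← e, Sylow.coe_subgroup_smul]
          exact Subgroup.smul_mem_pointwise_smul z (MulAut.conj (g' * g⁻¹)) _ (hD.le hgD)
      have hall : {y : G | orderOf y = 2 ∨ orderOf y = 4} = A ∪ B := by
        ext y
        rw [Set.mem_setOf_eq, even_iff h S]
        constructor
        · rintro ⟨g, hg, hg1⟩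
          by_cases hgD : g * y * g⁻¹ ∈ D
          · exact Or.inl ⟨g, hgD, hg1⟩
          · exact Or.inr ⟨g, hg, hgD⟩
        · rintro (⟨g, hg, hg1⟩ | ⟨g, hg, hg1⟩)
          · exact ⟨g, hD.le hg, hg1⟩
          · exact ⟨g, hg, fun e => hg1 (e ▸ D.one_mem)⟩
      show Nat.card ↥{y : G | orderOf y = 2 ∨ orderOf y = 4} = Nat.card A + Nat.card B
      rw [hall, Nat.card_coe_set_eq, Nat.card_coe_set_eq, Nat.card_coe_set_eq]
      exact Set.ncard_union_eq hdisj
    · rintro n hn x ⟨hx, hx1⟩
      exact ⟨(Subgroup.mem_normalizer_iff.mp hn x).mp hx, fun e => hx1 (conj_eq_one_iff.mp e)⟩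
    · rintro g x ⟨hx, hx1⟩ ⟨hgx, hgx1⟩
      set y := g * x * g⁻¹ with hy
      set D' := MulAut.conj g • D with hD'def
      have hyD' : y ∈ D' := Subgroup.smul_mem_pointwise_smul x (MulAut.conj g) _ hx
      have hcomm : ∀ a b : G, a * a = 1 → b * b = 1 → a * b * (a * b) = 1 → Commute a b :=
        fun a b => mul_sq_of_comm
      have hCp : IsPGroup 2 (Subgroup.centralizer ({y} : Set G)) :=
        isPGroup_of_centralizes h (prime_dvd_orderOf S.2 (hD.le hgx) hgx1)
          fun w hw => (Subgroup.mem_centralizer_singleton_iff.mp hw).symm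
      obtain ⟨R, hR⟩ := hCp.exists_le_sylow
      have hDc : D ≤ Subgroup.centralizer ({y} : Set G) := fun w hw =>
        Subgroup.mem_centralizer_singleton_iff.mpr
          (hcomm w y (hd.exp w hw) (hd.exp y hgx) (hd.exp _ (D.mul_mem hw hgx))).eq
      have hD'exp : ∀ w ∈ D', w * w = 1 := fun w hw => by
        have := hd.exp _ (mem_conj_smul.mp hw)
        calc w * w = g * ((g⁻¹ * w * g) * (g⁻¹ * w * g)) * g⁻¹ := by group
          _ = 1 := by rw [this]; group
      have hD'c : D' ≤ Subgroup.centralizer ({y} : Set G) := fun w hw =>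
        Subgroup.mem_centralizer_singleton_iff.mpr
          (hcomm w y (hD'exp w hw) (hD'exp y hyD') (hD'exp _ (D'.mul_mem hw hyD'))).eq
      obtain ⟨R0, rfl⟩ : ∃ R0, g • R0 = R := ⟨g⁻¹ • R, smul_inv_smul g R⟩
      have hDR0 : D ≤ (R0 : Subgroup G) := by
        have := hD'c.trans hR
        rwa [Sylow.coe_subgroup_smul, Subgroup.pointwise_smul_le_pointwise_smul_iff] at this
      exact mem_normalizer_of_conj_smul_eq
        (huat _ _ _ ((hspec R0 hDR0).smul g) (hspec _ (hDc.trans hR)))
    · intro n hn x hx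
      refine ⟨(Subgroup.mem_normalizer_iff.mp hn x).mp hx.1, fun hnx => hx.2 ?_⟩
      exact (Subgroup.mem_normalizer_iff.mp (hNS hn) x).mpr hnx

/-- The count with two special subgroups: a centre of order `k` whose conjugates cover `D`. -/
theorem conj_into_center (h : P5 G) {S : Sylow 2 G} {D C : Subgroup G} {k q : ℕ} (hD : Special S D)
    (hd : Data S D k q) (hCD : C ≤ D) (hCk : Nat.card C = k) (hdk : Nat.card D = k * k)
    (hcent : ∀ c ∈ C, ∀ x ∈ (S : Subgroup G), Commute c x) :
    ∀ x ∈ D, x ≠ 1 → ∃ g : G, g * x * g⁻¹ ∈ C := by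
  classical
  have : Fact (Nat.Prime 2) := ⟨Nat.prime_two⟩
  let Rs := {R : Sylow 2 G // D ≤ (R : Subgroup G)}
  have hn : ∀ R : Rs, ∃ n : G, n ∈ Subgroup.normalizer (D : Set G) ∧ n • S = R.1 :=
    fun R => by obtain ⟨n, h1, h2⟩ := hd.conj R.1 R.2; exact ⟨n, h1, h2⟩
  choose nn hnn hnS using hn
  let F : Rs × ({x : G | x ∈ C ∧ x ≠ 1} : Set G) → ({x : G | x ∈ D ∧ x ≠ 1} : Set G) := fun p =>
    ⟨nn p.1 * p.2 * (nn p.1)⁻¹, (Subgroup.mem_normalizer_iff.mp (hnn p.1) _).mp (hCD p.2.2.1),
      fun e => p.2.2.2 (conj_eq_one_iff.mp e)⟩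
  have hinj : Function.Injective F := by
    rintro ⟨R, a⟩ ⟨R', b⟩ e
    have e' : nn R * a * (nn R)⁻¹ = nn R' * b * (nn R')⁻¹ := congrArg Subtype.val e
    have hy : ∀ (T : Rs) (c : G), c ∈ C → c ≠ 1 →
        Subgroup.centralizer ({nn T * c * (nn T)⁻¹} : Set G) = (T.1 : Subgroup G) := by
      intro T c hc hc1
      have hp : 2 ∣ orderOf (nn T * c * (nn T)⁻¹) := by
        rw [← MulAut.conj_apply, MulEquiv.orderOf_eq]
        exact prime_dvd_orderOf S.2 (hD.le (hCD hc)) hc1
      refine T.1.3 (isPGroup_of_centralizes h hp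
        fun w hw => (Subgroup.mem_centralizer_singleton_iff.mp hw).symm) fun w hw => ?_
      rw [← hnS T, Sylow.coe_subgroup_smul, mem_conj_smul] at hw
      have := hcent c hc _ hw
      rw [Subgroup.mem_centralizer_singleton_iff]
      calc w * (nn T * c * (nn T)⁻¹) = nn T * ((nn T)⁻¹ * w * nn T * c) * (nn T)⁻¹ := by group
        _ = nn T * (c * ((nn T)⁻¹ * w * nn T)) * (nn T)⁻¹ := by rw [this.eq]
        _ = nn T * c * (nn T)⁻¹ * w := by group
    have h1 := hy R a a.2.1 a.2.2
    rw [e', hy R' b b.2.1 b.2.2] at h1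
    have hRR : R = R' := Subtype.ext (Sylow.ext h1.symm)
    subst hRR
    exact Prod.ext rfl (Subtype.ext (mul_left_cancel (mul_right_cancel e')))
  have hbij : Function.Bijective F := by
    refine (Nat.bijective_iff_injective_and_card F).mpr ⟨hinj, ?_⟩
    rw [Nat.card_prod, card_ne_one, card_ne_one, hd.number, hCk, hdk]
    have := hd.shape
    rw [hdk] at this
    rcases this with ⟨rfl, rfl, -⟩ | ⟨rfl, rfl, h16⟩ | ⟨rfl, rfl, -⟩ <;> omega
  intro x hx hx1
  obtain ⟨⟨R, a⟩, e⟩ := hbij.2 ⟨x, hx, hx1⟩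
  refine ⟨(nn R)⁻¹, ?_⟩
  have e' : nn R * a * (nn R)⁻¹ = x := congrArg Subtype.val e
  rw [← e']
  simpa [mul_assoc] using a.2.1

/-- Two special subgroups. -/
theorem count_two (h : P5 G) (hc : CoreFree G) (IH : OrderBelow.{u} (Nat.card G))
    {S : Sylow 2 G} {D E : Subgroup G} (hD : Special S D) (hE : Special S E) (hne : D ≠ E) :
    ∃ m, (Nat.card (S : Subgroup G) = 8 ∧ m = 2 ∨ Nat.card (S : Subgroup G) = 64 ∧ m = 36) ∧
      Nat.card {y : G // orderOf y = 2 ∨ orderOf y = 4} = (S : Subgroup G).index +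
        (Subgroup.normalizer ((S : Subgroup G) : Set G)).index * m := by
  classical
  have : Fact (Nat.Prime 2) := ⟨Nat.prime_two⟩
  obtain ⟨k, q, hd⟩ := special_data h hc IH hD
  obtain ⟨k', q', he⟩ := special_data h hc IH hE
  have hnotle : ∀ {A B : Subgroup G}, Special S A → Special S B → A ≠ B → ¬ A ≤ B := by
    intro A B hA hB hAB hle
    obtain ⟨S', hS', hSS'⟩ := hB.exists_other
    exact hAB ((hA.eq S' hS' (hle.trans (hSS' ▸ inf_le_right))).symm.trans hSS')
  have hbound : ∀ {A B : Subgroup G} {j r j' r' : ℕ}, Data S A j r → Data S B j' r' →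
      B ≤ (S : Subgroup G) → ¬ B ≤ A →
      Nat.card ↥(A ⊓ B) ^ 2 ≤ Nat.card A ∧ Nat.card B ≤ Nat.card ↥(A ⊓ B) * j := by
    intro A B j r j' r' hA hB hBS hBA
    obtain ⟨t, ht, htA⟩ := SetLike.not_le_iff_exists.mp hBA
    refine ⟨?_, ?_⟩
    · rw [← hA.fixed t (hBS ht) htA (by rw [hB.exp t ht]; exact A.one_mem)]
      refine Nat.pow_le_pow_left (Subgroup.card_le_of_le (?_ : A ⊓ B ≤ _)) 2
      exact fun c hc => ⟨hc.1, Subgroup.mem_centralizer_singleton_iff.mpr (mul_sq_of_comm
        (hB.exp c hc.2) (hB.exp t ht) (hB.exp _ (B.mul_mem hc.2 ht)))⟩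
    · have e : Nat.card ↥(A ⊓ B) * A.relIndex B = Nat.card B := by
        rw [← Subgroup.inf_relIndex_right, ← Subgroup.relIndex_bot_left (A ⊓ B),
          ← Subgroup.relIndex_bot_left B]
        exact Subgroup.relIndex_mul_relIndex _ _ _ bot_le inf_le_right
      rw [← e]
      refine Nat.mul_le_mul_left _ (hA.relIndex ▸ Subgroup.relIndex_le_of_le_right hBS ?_)
      rw [hA.relIndex]
      have := hA.shape
      omega
  obtain ⟨b1, b2⟩ := hbound hd he hE.le (hnotle hE hD hne.symm)
  obtain ⟨b3, b4⟩ := hbound he hd hD.le (hnotle hD hE hne)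
  rw [inf_comm] at b3 b4
  have hde : Nat.card E = Nat.card D := by
    have e := hd.card_eq.symm.trans he.card_eq
    generalize Nat.card ↥(D ⊓ E) = c at *
    have s1 := hd.shape
    have s2 := he.shape
    generalize Nat.card D = d at *
    generalize Nat.card E = d' at *
    rcases (show k = 2 ∨ k = 4 by omega) with rfl | rfl <;>
      rcases (show k' = 2 ∨ k' = 4 by omega) with rfl | rfl <;>
      first
      | omega
      | (exfalso
         have : c ≤ 2 := by
           by_contra hlt
           nlinarith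
         omega)
  obtain ⟨hd2, hck, hgen, hcap, hcent⟩ := pair hD.le hE.le hd.norm hd.relIndex hde
    (hnotle hE hD hne.symm) hd.exp he.exp hd.fixed (by have := hd.shape; omega)
  have hkk : k' = k := by
    have e := hd.card_eq.symm.trans he.card_eq
    rw [hde] at e
    exact (Nat.eq_of_mul_eq_mul_left Nat.card_pos e).symm
  subst hkk
  set C := D ⊓ E with hCdef
  set NS := Subgroup.normalizer ((S : Subgroup G) : Set G) with hNSdef
  have hinvol : ∀ x ∈ (S : Subgroup G), x * x = 1 → x ∈ D ∨ x ∈ E := by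
    intro x hx hxx
    obtain ⟨a, ha, b, hb, rfl⟩ := hgen x hx
    by_cases hbD : b ∈ D
    · exact Or.inl (D.mul_mem ha hbD)
    · exact Or.inr (E.mul_mem
        (hcap b hb hbD a ha (mul_sq_of_comm (hd.exp a ha) (he.exp b hb) hxx)) hb)
  have hexp : ∀ {F : Subgroup G}, Special S F → ∀ x ∈ F, x * x = 1 := by
    intro F hF
    obtain ⟨_, _, hf⟩ := special_data h hc IH hF
    exact hf.exp
  have honly : ∀ F, Special S F → F = D ∨ F = E := by
    intro F hF
    have hsub : ∀ x ∈ F, x ∈ D ∨ x ∈ E := fun x hx => hinvol x (hF.le hx) (hexp hF x hx)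
    have hcase : F ≤ D ∨ F ≤ E := by
      by_contra hall
      rw [not_or] at hall
      obtain ⟨x, hx, hxD⟩ := SetLike.not_le_iff_exists.mp hall.1
      obtain ⟨y, hy, hyE⟩ := SetLike.not_le_iff_exists.mp hall.2
      rcases hsub _ (F.mul_mem hx hy) with h' | h'
      · exact hxD ((D.mul_mem_cancel_right ((hsub y hy).resolve_right hyE)).mp h')
      · exact hyE ((E.mul_mem_cancel_left ((hsub x hx).resolve_left hxD)).mp h')
    rcases hcase with hle | hle
    · exact Or.inl (by_contra fun hn => hnotle hF hD hn hle)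
    · exact Or.inr (by_contra fun hn => hnotle hF hE hn hle)
  have hintoC : ∀ x ∈ (S : Subgroup G), x * x = 1 → x ≠ 1 → ∃ g : G, g * x * g⁻¹ ∈ C := by
    intro x hx hxx hx1
    rcases hinvol x hx hxx with hxm | hxm
    · exact conj_into_center h hD hd inf_le_left hck hd2 hcent x hxm hx1
    · exact conj_into_center h hE he inf_le_right hck (hde.trans hd2) hcent x hxm hx1
  have hCne : C ≠ ⊥ := fun e => by
    rw [e, Subgroup.card_bot] at hck
    have := hd.shape
    omega
  obtain ⟨z, hz, hz1⟩ := exists_mem_ne_one hCne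
  have hfuse : ∀ w ∈ C, w ≠ 1 → ∃ g : G, g * w * g⁻¹ = z := by
    intro w hw hw1
    rcases hd.shape with ⟨rfl, -, -⟩ | ⟨rfl, -, -⟩ | ⟨rfl, rfl, -⟩
    · refine ⟨1, ?_⟩
      by_contra hwz
      simp only [one_mul, inv_one, mul_one] at hwz
      have hs : ({1, w, z} : Set G) ⊆ (C : Set G) := by
        simp [Set.insert_subset_iff, C.one_mem, hw, hz]
      have := Set.ncard_le_ncard hs
      rw [← Nat.card_coe_set_eq (C : Set G), SetLike.coe_sort_coe, hck] at this
      have h3 : ({1, w, z} : Set G).ncard = 3 :=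
        Set.ncard_eq_three.mpr ⟨1, w, z, hw1.symm, hz1.symm, hwz, rfl⟩
      omega
    · refine ⟨1, ?_⟩
      by_contra hwz
      simp only [one_mul, inv_one, mul_one] at hwz
      have hs : ({1, w, z} : Set G) ⊆ (C : Set G) := by
        simp [Set.insert_subset_iff, C.one_mem, hw, hz]
      have := Set.ncard_le_ncard hs
      rw [← Nat.card_coe_set_eq (C : Set G), SetLike.coe_sort_coe, hck] at this
      have h3 : ({1, w, z} : Set G).ncard = 3 :=
        Set.ncard_eq_three.mpr ⟨1, w, z, hw1.symm, hz1.symm, hwz, rfl⟩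
      omega
    · -- an element of order three normalising `S` and `D`
      set N := Subgroup.normalizer (D : Set G) with hNdef
      have hNcard := hd.card_norm.2 rfl
      have e : MulAction.stabilizer N S = NS.subgroupOf N := by
        ext n
        rw [MulAction.mem_stabilizer_iff, Subgroup.mem_subgroupOf]
        exact Sylow.smul_eq_iff_mem_normalizer
      have horb : (MulAction.stabilizer N S).index = 5 := by
        rw [MulAction.index_stabilizer, ← Nat.card_coe_set_eq, ← hd.number]
        refine Nat.card_congr (Equiv.subtypeEquivRight fun R => ⟨?_, fun hR => ?_⟩)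
        · rintro ⟨n, rfl⟩
          show D ≤ (((n : G) • S : Sylow 2 G) : Subgroup G)
          rw [Sylow.coe_subgroup_smul, ← conj_smul_eq_of_mem n.2]
          exact Subgroup.pointwise_smul_le_pointwise_smul_iff.mpr hD.le
        · obtain ⟨n, hn, rfl⟩ := hd.conj R hR
          exact ⟨⟨n, hn⟩, rfl⟩
      have hst := (MulAction.stabilizer N S).card_mul_index
      rw [horb, hNcard, hd2] at hst
      have : Fact (Nat.Prime 3) := ⟨Nat.prime_three⟩
      obtain ⟨⟨⟨r, hrN⟩, hrst⟩, hro⟩ := exists_prime_orderOf_dvd_card'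
        (G := MulAction.stabilizer N S) 3 (by omega)
      rw [Subgroup.orderOf_mk, Subgroup.orderOf_mk] at hro
      rw [e, Subgroup.mem_subgroupOf] at hrst
      have hrE : MulAut.conj r • E = E := by
        have h1 := hE.smul r
        rw [Sylow.smul_eq_iff_mem_normalizer.mpr hrst] at h1
        rcases honly _ h1 with e1 | e1
        · exact absurd (MulAction.injective (MulAut.conj r)
            (e1.trans (conj_smul_eq_of_mem hrN).symm)) hne.symm
        · exact e1
      have hrC : ∀ x ∈ C, r * x * r⁻¹ ∈ C := fun x hx => ⟨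
        (Subgroup.mem_normalizer_iff.mp hrN x).mp hx.1,
        hrE ▸ Subgroup.smul_mem_pointwise_smul x (MulAut.conj r) E hx.2⟩
      set z' := r * w * r⁻¹ with hz'
      set z'' := r * z' * r⁻¹ with hz''
      have hz'C : z' ∈ C := hrC w hw
      have hz''C : z'' ∈ C := hrC _ hz'C
      have hfix : ∀ x ∈ C, x ≠ 1 → r * x * r⁻¹ ≠ x := fun x hx hx1 he' =>
        false_of_commute h Nat.prime_three Nat.prime_two (by norm_num) hro.symm.dvd
          (prime_dvd_orderOf S.2 (hD.le hx.1) hx1) (mul_inv_eq_iff_eq_mul.mp he')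
      have h1' : z' ≠ 1 := fun e => hw1 (conj_eq_one_iff.mp e)
      have h1'' : z'' ≠ 1 := fun e => h1' (conj_eq_one_iff.mp e)
      have n1 : z' ≠ w := hfix w hw hw1
      have n2 : z'' ≠ z' := hfix z' hz'C h1'
      have n3 : z'' ≠ w := by
        intro e3
        apply n1
        have hr3 : r * r * r = 1 := by
          have := pow_orderOf_eq_one r
          rw [hro] at this
          simpa [pow_succ, mul_assoc] using this
        calc z' = r * w * r⁻¹ := hz'
          _ = r * (r * (r * w * r⁻¹) * r⁻¹) * r⁻¹ := by rw [← hz', ← hz'', e3]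
          _ = (r * r * r) * w * (r * r * r)⁻¹ := by group
          _ = w := by rw [hr3]; group
      have hs : ({1, w, z', z''} : Set G) ⊆ (C : Set G) := by
        simp [Set.insert_subset_iff, C.one_mem, hw, hz'C, hz''C]
      have h4 : ({1, w, z', z''} : Set G).ncard = 4 := by
        rw [Set.ncard_insert_of_notMem (by simp [hw1.symm, h1'.symm, h1''.symm]),
          Set.ncard_eq_three.mpr ⟨w, z', z'', n1.symm, n3.symm, n2.symm, rfl⟩]
      have hEq := Set.eq_of_subset_of_ncard_le hs
        (by rw [h4, ← Nat.card_coe_set_eq (C : Set G), SetLike.coe_sort_coe, hck])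
      have hzm : z ∈ ({1, w, z', z''} : Set G) := hEq ▸ hz
      simp only [Set.mem_insert_iff, Set.mem_singleton_iff, hz1, false_or] at hzm
      rcases hzm with rfl | rfl | rfl
      · exact ⟨1, by simp⟩
      · exact ⟨r, rfl⟩
      · exact ⟨r * r, by rw [hz'', hz']; group⟩
  have hCz : Subgroup.centralizer ({z} : Set G) = (S : Subgroup G) :=
    S.3 (isPGroup_of_centralizes h (prime_dvd_orderOf S.2 (hD.le hz.1) hz1)
      fun w hw => (Subgroup.mem_centralizer_singleton_iff.mp hw).symm)
      fun w hw => Subgroup.mem_centralizer_singleton_iff.mpr (hcent z hz w hw).symm.eq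
  have hzz : z * z = 1 := hd.exp z hz.1
  let X : Set G := {x | x ∈ (S : Subgroup G) ∧ x * x ≠ 1}
  have hinvc : Nat.card {y : G // ∃ g : G, g * y * g⁻¹ ∈ ({z} : Set G)} =
      (S : Subgroup G).index := by
    rw [card_conj_union _ (Subgroup.centralizer ({z} : Set G)), hCz]
    · simp
    · rintro n hn x rfl
      rw [Set.mem_singleton_iff, mul_inv_eq_iff_eq_mul]
      exact Subgroup.mem_centralizer_singleton_iff.mp hn
    · rintro g x rfl hg
      rw [Set.mem_singleton_iff, mul_inv_eq_iff_eq_mul] at hg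
      exact Subgroup.mem_centralizer_singleton_iff.mpr hg
  have hX : Nat.card {y : G // ∃ g : G, g * y * g⁻¹ ∈ X} = NS.index * Nat.card X := by
    refine card_conj_sylow S X (fun x hx => hx.1) ?_ ?_
    · rintro n hn x ⟨hx, hx2⟩
      refine ⟨(Subgroup.mem_normalizer_iff.mp hn x).mp hx, fun e => hx2 ?_⟩
      refine conj_eq_one_iff.mp (?_ : n * (x * x) * n⁻¹ = 1)
      rw [← e]; group
    · rintro R hR x ⟨hx, hx2⟩ hxR
      by_cases hb : (S : Subgroup G) ⊓ (R : Subgroup G) = ⊥
      · have h1 : x ∈ (S : Subgroup G) ⊓ (R : Subgroup G) := ⟨hx, hxR⟩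
        rw [hb, Subgroup.mem_bot] at h1
        exact hx2 (by rw [h1, mul_one])
      · obtain ⟨F, hF, hle⟩ := exists_special hR hb
        exact hx2 (hexp hF x (hle ⟨hx, hxR⟩))
  have hXcard : Nat.card X = Nat.card (S : Subgroup G) + Nat.card C - 2 * Nat.card D := by
    have e : X = ((S : Subgroup G) : Set G) \ ((D : Set G) ∪ (E : Set G)) := by
      ext x
      constructor
      · rintro ⟨hx, hx2⟩
        exact ⟨hx, fun hh => hx2 (hh.elim (hd.exp x) (he.exp x))⟩
      · rintro ⟨hx, hx2⟩
        exact ⟨hx, fun hh => hx2 (hinvol x hx hh)⟩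
    rw [Nat.card_coe_set_eq, e,
      Set.ncard_diff (Set.union_subset (fun x hx => hD.le hx) (fun x hx => hE.le hx))]
    have hu := Set.ncard_union_add_ncard_inter (D : Set G) (E : Set G)
    rw [← Subgroup.coe_inf, ← hCdef] at hu
    simp only [← Nat.card_coe_set_eq, SetLike.coe_sort_coe] at hu ⊢
    have hle1 : Nat.card ↥((D : Set G) ∪ (E : Set G)) ≤ Nat.card (S : Subgroup G) := by
      rw [Nat.card_coe_set_eq, ← SetLike.coe_sort_coe, Nat.card_coe_set_eq]
      exact Set.ncard_le_ncard (Set.union_subset (fun x hx => hD.le hx) (fun x hx => hE.le hx))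
    rw [hde] at hu
    omega
  refine ⟨Nat.card X, ?_, ?_⟩
  · rw [hXcard, hd.card_eq, hd2, hck]
    have := hd.shape
    rw [hd2] at this
    rcases this with ⟨rfl, -⟩ | ⟨rfl, -, h16⟩ | ⟨rfl, -⟩ <;> omega
  · rw [← hinvc, ← hX]
    let A : Set G := {y | ∃ g : G, g * y * g⁻¹ ∈ ({z} : Set G)}
    let B : Set G := {y | ∃ g : G, g * y * g⁻¹ ∈ X}
    have hdisj : Disjoint A B := by
      rw [Set.disjoint_left]
      rintro y ⟨g, hg⟩ ⟨g', -, hg'⟩
      rw [Set.mem_singleton_iff] at hg
      apply hg'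
      have hy : y = g⁻¹ * z * g := by rw [← hg]; group
      calc g' * y * g'⁻¹ * (g' * y * g'⁻¹) = g' * g⁻¹ * (z * z) * g * g'⁻¹ := by rw [hy]; group
        _ = 1 := by rw [hzz]; group
    have hall : {y : G | orderOf y = 2 ∨ orderOf y = 4} = A ∪ B := by
      ext y
      rw [Set.mem_setOf_eq, even_iff h S]
      constructor
      · rintro ⟨g, hg, hg1⟩
        by_cases hgg : g * y * g⁻¹ * (g * y * g⁻¹) = 1
        · obtain ⟨g1, h1⟩ := hintoC _ hg hgg hg1
          obtain ⟨g2, h2⟩ := hfuse _ h1 (fun e => hg1 (conj_eq_one_iff.mp e))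
          refine Or.inl ⟨g2 * g1 * g, ?_⟩
          rw [Set.mem_singleton_iff, ← h2]
          group
        · exact Or.inr ⟨g, hg, hgg⟩
      · rintro (⟨g, hg⟩ | ⟨g, hg, hg1⟩)
        · rw [Set.mem_singleton_iff] at hg
          exact ⟨g, hg ▸ hD.le hz.1, hg ▸ hz1⟩
        · exact ⟨g, hg, fun e => hg1 (by rw [e, mul_one])⟩
    show Nat.card ↥{y : G | orderOf y = 2 ∨ orderOf y = 4} = Nat.card A + Nat.card B
    rw [hall, Nat.card_coe_set_eq, Nat.card_coe_set_eq, Nat.card_coe_set_eq]
    exact Set.ncard_union_eq hdisj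

end Cfsg.Agent.Lib.SpecFive
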