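import Cfsg.Agent.Lib.SpecFive.Odd

/-!
Counting the elements conjugate into a trivial-intersection set.
-/

set_option autoImplicit false

namespace Cfsg.Agent.Lib.SpecFive

variable {G : Type*} [Group G] [Finite G]

omit [Finite G] in
/-- The union of the conjugates of an `N`-stable set with trivial intersection. -/
theorem card_conj_union (X : Set G) (N : Subgroup G)
    (hinv : ∀ n ∈ N, ∀ x ∈ X, n * x * n⁻¹ ∈ X)
    (hti : ∀ g : G, ∀ x ∈ X, g * x * g⁻¹ ∈ X → g ∈ N) :
    Nat.card {y : G // ∃ g : G, g * y * g⁻¹ ∈ X} = N.index * Nat.card X := by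
  rw [Subgroup.index, ← Nat.card_prod]
  symm
  let F : (G ⧸ N) × X → {y : G // ∃ g : G, g * y * g⁻¹ ∈ X} := fun cx =>
    ⟨cx.1.out * cx.2 * cx.1.out⁻¹, cx.1.out⁻¹, by simp [mul_assoc]⟩
  refine Nat.card_congr (Equiv.ofBijective F ⟨?_, ?_⟩)
  · rintro ⟨a, x⟩ ⟨b, y⟩ hxy
    have e : a.out * x * a.out⁻¹ = b.out * y * b.out⁻¹ := congrArg Subtype.val hxy
    have e1 : b.out⁻¹ * a.out * x * (b.out⁻¹ * a.out)⁻¹ = y := by
      calc b.out⁻¹ * a.out * x * (b.out⁻¹ * a.out)⁻¹ = b.out⁻¹ * (a.out * x * a.out⁻¹) * b.out := by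
            group
        _ = y := by rw [e]; group
    have hab : b = a := by
      have := hti _ x x.2 (by rw [e1]; exact y.2)
      rw [← QuotientGroup.out_eq' a, ← QuotientGroup.out_eq' b]
      exact (QuotientGroup.eq).mpr this
    subst hab
    have : (x : G) = y := by
      rw [inv_mul_cancel, one_mul, inv_one, mul_one] at e1
      exact e1
    exact Prod.ext rfl (Subtype.ext this)
  · rintro ⟨y, g, hg⟩
    obtain ⟨n, hn⟩ := QuotientGroup.mk_out_eq_mul N g⁻¹
    refine ⟨(((g⁻¹ : G) : G ⧸ N), ⟨_, hinv _ (N.inv_mem n.2) _ hg⟩), Subtype.ext ?_⟩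
    show ((g⁻¹ : G) : G ⧸ N).out * _ * ((g⁻¹ : G) : G ⧸ N).out⁻¹ = y
    rw [hn]; simp [mul_assoc]

theorem card_ne_one (H : Subgroup G) :
    Nat.card ({x : G | x ∈ H ∧ x ≠ 1} : Set G) = Nat.card H - 1 := by
  have e : ({x : G | x ∈ H ∧ x ≠ 1} : Set G) = (H : Set G) \ {1} := by ext; simp
  rw [e, Nat.card_coe_set_eq, Set.ncard_diff_singleton_of_mem H.one_mem, ← Nat.card_coe_set_eq,
    SetLike.coe_sort_coe]

/-- The elements of order `p` (`p = 3, 5`). -/
theorem card_orderOf_eq (h : P5 G) {p : ℕ} [hp : Fact p.Prime] (hp35 : p = 3 ∨ p = 5)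
    (P : Sylow p G) :
    Nat.card {y : G // orderOf y = p} =
      (Subgroup.normalizer ((P : Subgroup G) : Set G)).index * (Nat.card (P : Subgroup G) - 1) := by
  rw [← card_ne_one, ← card_conj_union]
  · refine Nat.card_congr (Equiv.subtypeEquivRight fun y => ⟨fun hy => ?_, ?_⟩)
    · have hz : IsPGroup p (Subgroup.zpowers y) := IsPGroup.of_card (n := 1) (by
        rw [Nat.card_zpowers, hy, pow_one])
      obtain ⟨R, hR⟩ := hz.exists_le_sylow
      obtain ⟨g, hg⟩ := MulAction.exists_smul_eq G R P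
      refine ⟨g, ?_, fun e => ?_⟩
      · rw [← hg, Sylow.coe_subgroup_smul]
        exact Subgroup.smul_mem_pointwise_smul y (MulAut.conj g) _ (hR (Subgroup.mem_zpowers y))
      · rw [conj_eq_one_iff.mp e, orderOf_one] at hy
        exact hp.out.one_lt.ne hy
    · rintro ⟨g, hg, hg1⟩
      have := orderOf_eq_of_odd h hp35 (prime_dvd_orderOf P.2 hg hg1)
      rwa [← MulAut.conj_apply, MulEquiv.orderOf_eq] at this
  · rintro n hn x ⟨hx, hx1⟩
    exact ⟨(Subgroup.mem_normalizer_iff.mp hn x).mp hx, fun e => hx1 (conj_eq_one_iff.mp e)⟩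
  · rintro g x ⟨hx, hx1⟩ ⟨hgx, -⟩
    refine Sylow.smul_eq_iff_mem_normalizer.mp ?_
    by_contra hne
    have h1 : g * x * g⁻¹ ∈ ((g • P : Sylow p G) : Subgroup G) := by
      rw [Sylow.coe_subgroup_smul]
      exact Subgroup.smul_mem_pointwise_smul x (MulAut.conj g) _ hx
    have h2 : g * x * g⁻¹ ∈ ((g • P : Sylow p G) : Subgroup G) ⊓ (P : Subgroup G) := ⟨h1, hgx⟩
    rw [ti h hp35 _ _ hne, Subgroup.mem_bot] at h2
    exact hx1 (conj_eq_one_iff.mp h2)

/-- The class partition by element order. -/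
theorem card_eq_sum (h : P5 G) :
    Nat.card G = 1 + Nat.card {y : G // orderOf y = 2 ∨ orderOf y = 4} +
      Nat.card {y : G // orderOf y = 3} + Nat.card {y : G // orderOf y = 5} := by
  classical
  have := Fintype.ofFinite G
  simp only [Nat.card_eq_fintype_card, Fintype.card_subtype]
  have h1 : (Finset.univ.filter fun y : G => orderOf y = 1).card = 1 := by
    rw [Finset.card_eq_one]; exact ⟨1, by ext; simp⟩
  conv_rhs => rw [← h1]
  rw [← Finset.card_union_of_disjoint, ← Finset.card_union_of_disjoint,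
    ← Finset.card_union_of_disjoint, ← Finset.card_univ]
  · congr 1
    ext y
    have := order_cases h y
    simp only [Finset.mem_univ, Finset.mem_union, Finset.mem_filter, true_and, true_iff]
    tauto
  all_goals
    rw [Finset.disjoint_left]
    intro y
    simp only [Finset.mem_union, Finset.mem_filter, Finset.mem_univ, true_and]
    omega

end Cfsg.Agent.Lib.SpecFive
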