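import Cfsg.Agent.Lib.SpecFive.Two

/-!
Maximal intersections of Sylow 2-subgroups in a core-free group with element orders at most five.
-/

set_option autoImplicit false

open scoped Pointwise

namespace Cfsg.Agent.Lib.SpecFive

universe u

variable {G : Type u} [Group G] [Finite G]

/-- A maximal nontrivial intersection of `S` with other Sylow 2-subgroups. -/
structure Special (S : Sylow 2 G) (D : Subgroup G) : Prop where
  ne : D ≠ ⊥
  exists_other : ∃ S' : Sylow 2 G, S' ≠ S ∧ (S : Subgroup G) ⊓ (S' : Subgroup G) = D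
  eq : ∀ S' : Sylow 2 G, S' ≠ S → D ≤ (S' : Subgroup G) →
    (S : Subgroup G) ⊓ (S' : Subgroup G) = D

omit [Finite G] in
theorem Special.le {S : Sylow 2 G} {D : Subgroup G} (hD : Special S D) : D ≤ (S : Subgroup G) := by
  obtain ⟨S', -, rfl⟩ := hD.exists_other
  exact inf_le_left

theorem exists_special {S S' : Sylow 2 G} (hne : S' ≠ S)
    (hb : (S : Subgroup G) ⊓ (S' : Subgroup G) ≠ ⊥) :
    ∃ D, Special S D ∧ (S : Subgroup G) ⊓ (S' : Subgroup G) ≤ D := by
  classical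
  have := Fintype.ofFinite (Sylow 2 G)
  obtain ⟨T, hT, hmax⟩ := Finset.exists_max_image
    (Finset.univ.filter fun T : Sylow 2 G =>
      T ≠ S ∧ (S : Subgroup G) ⊓ (S' : Subgroup G) ≤ (T : Subgroup G))
    (fun T => Nat.card ↥((S : Subgroup G) ⊓ (T : Subgroup G)))
    ⟨S', by simp [hne]⟩
  simp only [Finset.mem_filter, Finset.mem_univ, true_and] at hT hmax
  have hle : (S : Subgroup G) ⊓ (S' : Subgroup G) ≤ (S : Subgroup G) ⊓ (T : Subgroup G) :=
    le_inf inf_le_left hT.2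
  refine ⟨(S : Subgroup G) ⊓ (T : Subgroup G),
    ⟨fun e => hb (le_bot_iff.mp (e ▸ hle)), ⟨T, hT.1, rfl⟩, fun R hR hDR => ?_⟩, hle⟩
  exact (Subgroup.eq_of_le_of_card_ge (le_inf inf_le_left hDR)
    (hmax R ⟨hR, hle.trans hDR⟩)).symm

omit [Finite G] in
theorem mem_conj_smul {H : Subgroup G} {g x : G} :
    x ∈ MulAut.conj g • H ↔ g⁻¹ * x * g ∈ H := by
  rw [Subgroup.mem_pointwise_smul_iff_inv_smul_mem]
  simp [MulAut.smul_def, mul_assoc]

omit [Finite G] in
theorem conj_smul_eq_of_mem {H : Subgroup G} {g : G}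
    (hg : g ∈ Subgroup.normalizer (H : Set G)) : MulAut.conj g • H = H := by
  ext x
  rw [mem_conj_smul, Subgroup.mem_normalizer_iff.mp hg (g⁻¹ * x * g)]
  simp [mul_assoc]

omit [Finite G] in
theorem mem_normalizer_of_conj_smul_eq {H : Subgroup G} {g : G} (e : MulAut.conj g • H = H) :
    g ∈ Subgroup.normalizer (H : Set G) := by
  rw [Subgroup.mem_normalizer_iff]
  intro x
  conv_rhs => rw [← e, mem_conj_smul]
  simp [mul_assoc]

omit [Finite G] in
theorem Special.smul {S : Sylow 2 G} {D : Subgroup G} (hD : Special S D) (g : G) :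
    Special (g • S) (MulAut.conj g • D) := by
  obtain ⟨hne, ⟨S', hS', hSS'⟩, heq⟩ := hD
  refine ⟨fun e => hne ?_, ⟨g • S', fun e => hS' (MulAction.injective g e), ?_⟩, fun R hR hDR => ?_⟩
  · rw [eq_bot_iff]
    intro x hx
    have : g * x * g⁻¹ ∈ MulAut.conj g • D :=
      Subgroup.smul_mem_pointwise_smul x (MulAut.conj g) D hx
    rw [e, Subgroup.mem_bot, conj_eq_one_iff] at this
    exact this
  · rw [← hSS', Subgroup.smul_inf]; rfl
  · obtain ⟨R', rfl⟩ : ∃ R', g • R' = R := ⟨g⁻¹ • R, smul_inv_smul g R⟩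
    rw [Sylow.coe_subgroup_smul, Subgroup.pointwise_smul_le_pointwise_smul_iff] at hDR
    rw [← heq R' (fun e => hR (e ▸ rfl)) hDR, Subgroup.smul_inf]
    rfl

theorem pow_four_of_mem (h : P5 G) (S : Sylow 2 G) {x : G} (hx : x ∈ (S : Subgroup G)) :
    x ^ 4 = 1 := by
  have : Fact (Nat.Prime 2) := ⟨Nat.prime_two⟩
  by_cases hx1 : x = 1
  · rw [hx1, one_pow]
  · exact pow_four_eq_one h (prime_dvd_orderOf S.2 hx hx1)

/-- A proper subgroup of a Sylow subgroup is normalised by an outside involution modulo it. -/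
theorem exists_normalizing (h : P5 G) (R : Sylow 2 G) (H : Subgroup G) (hle : H ≤ (R : Subgroup G))
    (hne : H ≠ (R : Subgroup G)) :
    ∃ x ∈ (R : Subgroup G), x ∉ H ∧ x ∈ Subgroup.normalizer (H : Set G) ∧ x * x ∈ H := by
  have : Fact (Nat.Prime 2) := ⟨Nat.prime_two⟩
  have : Group.IsNilpotent (R : Subgroup G) := R.2.isNilpotent
  obtain ⟨y, hy, hy'⟩ := SetLike.exists_of_lt
    (Group.normalizerCondition_of_isNilpotent (H.subgroupOf (R : Subgroup G)) (lt_top_iff_ne_top.mpr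
      fun e => hne (le_antisymm hle (Subgroup.subgroupOf_eq_top.mp e))))
  rw [Subgroup.mem_subgroupOf] at hy'
  have hn : (y : G) ∈ Subgroup.normalizer (H : Set G) := by
    rw [Subgroup.mem_normalizer_iff]
    intro z
    constructor
    · intro hz
      exact (Subgroup.mem_normalizer_iff.mp hy ⟨z, hle hz⟩).mp hz
    · intro hz
      have hzR : z ∈ (R : Subgroup G) := by
        have h1 := hle hz
        have h2 := (R : Subgroup G).mul_mem ((R : Subgroup G).mul_mem
          ((R : Subgroup G).inv_mem y.2) h1) y.2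
        simpa [mul_assoc] using h2
      exact (Subgroup.mem_normalizer_iff.mp hy ⟨z, hzR⟩).mpr hz
  by_cases h2 : (y : G) * y ∈ H
  · exact ⟨y, y.2, hy', hn, h2⟩
  · refine ⟨(y : G) * y, (R : Subgroup G).mul_mem y.2 y.2, h2, mul_mem hn hn, ?_⟩
    have := pow_four_of_mem h R y.2
    rw [show (y : G) * y * ((y : G) * y) = (y : G) ^ 4 by simp [pow_succ, mul_assoc], this]
    exact H.one_mem

/-- The two shapes of the local data. -/
theorem Local.bounds {E : Subgroup G} {k q : ℕ} (hl : Local E k q) (hE : IsPGroup 2 E)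
    (hne : E ≠ ⊥) :
    (k = 2 ∧ q = 3 ∧ 4 ≤ Nat.card E) ∨ (k = 2 ∧ q = 5 ∧ 16 ≤ Nat.card E) ∨
      (k = 4 ∧ q = 5 ∧ 16 ≤ Nat.card E) := by
  have : Fact (Nat.Prime 2) := ⟨Nat.prime_two⟩
  obtain ⟨n, hn⟩ := IsPGroup.iff_card.mp hE
  have h1 : 1 < 2 ^ n := hn ▸ (Subgroup.one_lt_card_iff_ne_bot E).mpr hne
  obtain ⟨hq, -⟩ := hl.dvd
  rw [hn] at hq ⊢
  have h4 : n ≤ 3 → n = 1 ∨ n = 2 ∨ n = 3 := fun _ => by
    rcases Nat.eq_zero_or_pos n with rfl | h0
    · simp at h1
    · omega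
  have h16 : q = 5 → 16 ≤ 2 ^ n := by
    rintro rfl
    by_contra hlt
    have : n ≤ 3 := by
      by_contra h5
      have : 2 ^ 4 ≤ 2 ^ n := Nat.pow_le_pow_right (by norm_num) (by omega)
      omega
    rcases h4 this with rfl | rfl | rfl <;> norm_num at hq
  rcases hl.shape with ⟨rfl, rfl | rfl⟩ | ⟨rfl, rfl⟩
  · refine Or.inl ⟨rfl, rfl, ?_⟩
    by_contra hlt
    have : n ≤ 3 := by
      by_contra h5
      have : 2 ^ 4 ≤ 2 ^ n := Nat.pow_le_pow_right (by norm_num) (by omega)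
      omega
    rcases h4 this with rfl | rfl | rfl <;> first | omega | norm_num at hq
  · exact Or.inr (Or.inl ⟨rfl, rfl, h16 rfl⟩)
  · exact Or.inr (Or.inr ⟨rfl, rfl, h16 rfl⟩)

/-- Two elementary abelian subgroups `D`, `E` of the same order in a 2-group `T`, with `D`
normal of index `k`, and small fixed point groups. -/
theorem pair {D E T : Subgroup G} {k : ℕ} (hDT : D ≤ T) (hET : E ≤ T)
    (hTD : T ≤ Subgroup.normalizer (D : Set G)) (hTk : D.relIndex T = k)
    (hcard : Nat.card E = Nat.card D) (hED : ¬ E ≤ D)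
    (hDexp : ∀ x ∈ D, x * x = 1) (hEexp : ∀ x ∈ E, x * x = 1)
    (hfix : ∀ t ∈ T, t ∉ D → t * t ∈ D →
      Nat.card ↥(D ⊓ Subgroup.centralizer ({t} : Set G)) ^ 2 = Nat.card D)
    (hk : k = 2 ∧ 4 ≤ Nat.card D ∨ k = 4 ∧ 16 ≤ Nat.card D) :
    Nat.card D = k * k ∧ Nat.card ↥(D ⊓ E) = k ∧
    (∀ x ∈ T, ∃ a ∈ D, ∃ b ∈ E, x = a * b) ∧
    (∀ t ∈ E, t ∉ D → ∀ a ∈ D, Commute a t → a ∈ E) ∧
    (∀ c ∈ D ⊓ E, ∀ x ∈ T, Commute c x) := by
  have hDc : ∀ x ∈ D, ∀ y ∈ D, x * y = y * x := fun x hx y hy =>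
    mul_sq_of_comm (hDexp x hx) (hDexp y hy) (hDexp _ (D.mul_mem hx hy))
  have hEc : ∀ x ∈ E, ∀ y ∈ E, x * y = y * x := fun x hx y hy =>
    mul_sq_of_comm (hEexp x hx) (hEexp y hy) (hEexp _ (E.mul_mem hx hy))
  have hle : ∀ t ∈ E, D ⊓ E ≤ D ⊓ Subgroup.centralizer ({t} : Set G) := fun t ht c hc =>
    ⟨hc.1, Subgroup.mem_centralizer_singleton_iff.mpr (hEc c hc.2 t ht)⟩
  have hsqle : ∀ t ∈ E, t ∉ D → Nat.card ↥(D ⊓ Subgroup.centralizer ({t} : Set G)) ^ 2 =
      Nat.card D := fun t ht htD => hfix t (hET ht) htD (by rw [hEexp t ht]; exact D.one_mem)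
  obtain ⟨t, ht, htD⟩ := SetLike.not_le_iff_exists.mp hED
  have h1 : Nat.card ↥(D ⊓ E) ^ 2 ≤ Nat.card D := by
    rw [← hsqle t ht htD]
    exact Nat.pow_le_pow_left (Subgroup.card_le_of_le (hle t ht)) 2
  have hrel : D.relIndex E ≤ k := hTk ▸ Subgroup.relIndex_le_of_le_right hET
    (by rw [hTk]; omega)
  have hprod : Nat.card ↥(D ⊓ E) * D.relIndex E = Nat.card E := by
    rw [← Subgroup.inf_relIndex_right, ← Subgroup.relIndex_bot_left (D ⊓ E),
      ← Subgroup.relIndex_bot_left E]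
    exact Subgroup.relIndex_mul_relIndex _ _ _ bot_le inf_le_right
  rw [hcard] at hprod
  have hc : Nat.card ↥(D ⊓ E) = k ∧ D.relIndex E = k ∧ Nat.card D = k * k := by
    have h2 : Nat.card D ≤ Nat.card ↥(D ⊓ E) * k :=
      hprod ▸ Nat.mul_le_mul_left _ hrel
    generalize Nat.card ↥(D ⊓ E) = c at *
    generalize Nat.card D = d at *
    generalize D.relIndex E = r at *
    have hck : c ≤ k := by
      by_contra hlt
      nlinarith
    rcases hk with ⟨rfl, hd⟩ | ⟨rfl, hd⟩ <;> interval_cases c <;> interval_cases r <;> omega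
  obtain ⟨hc, hr, hd⟩ := hc
  have hcap : ∀ t ∈ E, t ∉ D → ∀ a ∈ D, Commute a t → a ∈ E := by
    intro t ht htD a ha hat
    have e := hsqle t ht htD
    rw [hd, ← sq] at e
    have e' := Nat.pow_left_injective two_ne_zero e
    have := Subgroup.eq_of_le_of_card_ge (hle t ht) (by rw [e', hc])
    exact (this ▸ (⟨ha, Subgroup.mem_centralizer_singleton_iff.mpr hat⟩ :
      a ∈ D ⊓ Subgroup.centralizer ({t} : Set G)) : a ∈ D ⊓ E).2
  have hgen : ∀ x ∈ T, ∃ a ∈ D, ∃ b ∈ E, x = a * b := by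
    have hnorm : E ≤ Subgroup.normalizer (D : Set G) := hET.trans hTD
    have hsup : D ⊔ E ≤ T := sup_le hDT hET
    have hge : Nat.card T ≤ Nat.card ↥(D ⊔ E) := by
      have e1 : Nat.card ↥(D ⊔ E) = Nat.card D * D.relIndex (D ⊔ E) := by
        rw [← Subgroup.relIndex_bot_left D, ← Subgroup.relIndex_bot_left (D ⊔ E)]
        exact (Subgroup.relIndex_mul_relIndex _ _ _ bot_le le_sup_left).symm
      have e2 : Nat.card T = Nat.card D * k := by
        rw [← hTk, ← Subgroup.relIndex_bot_left D, ← Subgroup.relIndex_bot_left T]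
        exact (Subgroup.relIndex_mul_relIndex _ _ _ bot_le hDT).symm
      have e3 : k ≤ D.relIndex (D ⊔ E) := hr ▸ Subgroup.relIndex_le_of_le_right le_sup_right
        (by intro e; rw [e, Nat.mul_zero] at e1; exact Nat.card_pos.ne' e1)
      rw [e1, e2]
      exact Nat.mul_le_mul_left _ e3
    intro x hx
    rw [← Subgroup.eq_of_le_of_card_ge hsup hge, ← SetLike.mem_coe,
      Subgroup.coe_mul_of_right_le_normalizer_left D E hnorm] at hx
    obtain ⟨a, ha, b, hb, rfl⟩ := Set.mem_mul.mp hx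
    exact ⟨a, ha, b, hb, rfl⟩
  refine ⟨hd, hc, hgen, hcap, fun c hc x hx => ?_⟩
  obtain ⟨a, ha, b, hb, rfl⟩ := hgen x hx
  exact Commute.mul_right (hDc c hc.1 a ha) (hEc c hc.2 b hb)

/-- The information attached to a special subgroup. -/
structure Data (S : Sylow 2 G) (D : Subgroup G) (k q : ℕ) : Prop where
  norm : (S : Subgroup G) ≤ Subgroup.normalizer (D : Set G)
  exp : ∀ x ∈ D, x * x = 1
  fixed : ∀ t ∈ (S : Subgroup G), t ∉ D → t * t ∈ D →
    Nat.card ↥(D ⊓ Subgroup.centralizer ({t} : Set G)) ^ 2 = Nat.card D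
  shape : (k = 2 ∧ q = 3 ∧ 4 ≤ Nat.card D) ∨ (k = 2 ∧ q = 5 ∧ 16 ≤ Nat.card D) ∨
    (k = 4 ∧ q = 5 ∧ 16 ≤ Nat.card D)
  card_norm : (k = 2 → Nat.card ↥(Subgroup.normalizer (D : Set G)) = Nat.card D * (2 * q)) ∧
    (k = 4 → Nat.card ↥(Subgroup.normalizer (D : Set G)) = Nat.card D * 60)
  card_norm_lt : Nat.card ↥(Subgroup.normalizer (D : Set G)) < Nat.card G
  card_eq : Nat.card (S : Subgroup G) = Nat.card D * k
  relIndex : D.relIndex (S : Subgroup G) = k
  number : Nat.card {R : Sylow 2 G // D ≤ (R : Subgroup G)} = q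
  conj : ∀ R : Sylow 2 G, D ≤ (R : Subgroup G) →
    ∃ n ∈ Subgroup.normalizer (D : Set G), n • S = R

theorem special_data (h : P5 G) (hc : CoreFree G) (IH : OrderBelow.{u} (Nat.card G))
    {S : Sylow 2 G} {D : Subgroup G} (hD : Special S D) : ∃ k q, Data S D k q := by
  classical
  have : Fact (Nat.Prime 2) := ⟨Nat.prime_two⟩
  obtain ⟨S', hS', hSS'⟩ := hD.exists_other
  have hDS : D ≤ (S : Subgroup G) := hD.le
  have hDS' : D ≤ (S' : Subgroup G) := hSS' ▸ inf_le_right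
  have hDp : IsPGroup 2 D := S.2.to_le hDS
  set N := Subgroup.normalizer (D : Set G) with hNdef
  have hDN : D ≤ N := Subgroup.le_normalizer
  have hlt : Nat.card N < Nat.card G := by
    refine lt_of_le_of_ne (Subgroup.card_le_card_group N) fun e => hD.ne ?_
    exact hc 2 D Nat.prime_two
      (Subgroup.normalizer_eq_top_iff.mp (Subgroup.eq_top_of_card_eq N e)) hDp
  have hDneS : ∀ R : Sylow 2 G, R ≠ S → D ≤ (R : Subgroup G) → D ≠ (R : Subgroup G) := by
    intro R hR hDR e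
    have h1 : (R : Subgroup G) ≤ (S : Subgroup G) := e ▸ hDS
    exact hR (Sylow.ext (R.3 S.2 h1).symm)
  have hSne : D ≠ (S : Subgroup G) := fun e => hS' (Sylow.ext (S.3 S'.2 (e ▸ hDS')))
  obtain ⟨x₀, hx₀, hx₀D, hx₀N, -⟩ := exists_normalizing h S D hDS hSne
  obtain ⟨x₁, hx₁, hx₁D, hx₁N, -⟩ := exists_normalizing h S' D hDS' (hDneS S' hS' hDS')
  set T := (S : Subgroup G) ⊓ N with hTdef
  have huniq : ∀ R : Sylow 2 G, T ≤ (R : Subgroup G) → R = S := by
    intro R hR
    by_contra hne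
    have e := hD.eq R hne ((le_inf hDS hDN).trans hR)
    exact hx₀D (e ▸ ⟨hx₀, hR ⟨hx₀, hx₀N⟩⟩)
  let TN : Sylow 2 N :=
    { toSubgroup := T.subgroupOf N
      isPGroup' := (S.2.to_le inf_le_left).comap_of_injective N.subtype N.subtype_injective
      is_maximal' := by
        intro M hM hle
        obtain ⟨R, hR⟩ := (hM.map N.subtype).exists_le_sylow
        have hTR : T ≤ (R : Subgroup G) := fun y hy =>
          hR ⟨⟨y, hy.2⟩, hle (Subgroup.mem_subgroupOf.mpr hy), rfl⟩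
        rw [huniq R hTR] at hR
        have hMT : M ≤ T.subgroupOf N := fun y hy => Subgroup.mem_subgroupOf.mpr
          (show (y : G) ∈ T from ⟨hR (Subgroup.mem_map_of_mem N.subtype hy), y.2⟩)
        exact le_antisymm hMT hle }
  let DN : Subgroup N := D.subgroupOf N
  have hDNn : DN.Normal := ⟨fun y hy g => by
    rw [Subgroup.mem_subgroupOf] at hy ⊢
    simpa using (Subgroup.mem_normalizer_iff.mp g.2 (y : G)).mp hy⟩
  have hU : IsPGroup 2 (((S' : Subgroup G) ⊓ N).subgroupOf N) :=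
    (S'.2.to_le inf_le_left).comap_of_injective N.subtype N.subtype_injective
  obtain ⟨TS', hTS'⟩ := hU.exists_le_sylow
  obtain ⟨R', hR'⟩ := (TS'.2.map N.subtype).exists_le_sylow
  have hx₁R' : x₁ ∈ (R' : Subgroup G) :=
    hR' ⟨⟨x₁, hx₁N⟩, hTS' (Subgroup.mem_subgroupOf.mpr ⟨hx₁, hx₁N⟩), rfl⟩
  have hR'ne : R' ≠ S := fun e => hx₁D (hSS' ▸ ⟨e ▸ hx₁R', hx₁⟩)
  have hDR' : D ≤ (R' : Subgroup G) := fun y hy =>
    hR' ⟨⟨y, hDN hy⟩, hTS' (Subgroup.mem_subgroupOf.mpr ⟨hDS' hy, hDN hy⟩), rfl⟩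
  have hmax : ∀ M : Subgroup N, M.Normal → IsPGroup 2 M → M ≤ DN := by
    intro M hMn hM y hy
    have h1 : y ∈ (TN : Subgroup N) := hM.le_sylow_of_normal TN hy
    have h2 : (y : G) ∈ (R' : Subgroup G) := hR' ⟨y, hM.le_sylow_of_normal TS' hy, rfl⟩
    exact Subgroup.mem_subgroupOf.mpr (hD.eq R' hR'ne hDR' ▸ ⟨(Subgroup.mem_subgroupOf.mp h1).1, h2⟩)
  have hnn : ∀ T' : Sylow 2 N, ¬ (T' : Subgroup N).Normal := by
    intro T' hT'
    have h1 := le_normal_sylow TN.2 T' hT'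
    have e : (T' : Subgroup N) = (TN : Subgroup N) := TN.3 T'.2 h1
    have h2 := le_normal_sylow hU T' hT'
      (show (⟨x₁, hx₁N⟩ : N) ∈ _ from Subgroup.mem_subgroupOf.mpr ⟨hx₁, hx₁N⟩)
    rw [e] at h2
    exact hx₁D (hSS' ▸ ⟨(Subgroup.mem_subgroupOf.mp h2).1, hx₁⟩)
  have hDNne : DN ≠ ⊥ := fun e => hD.ne (by
    rw [← inf_eq_left.mpr hDN]
    exact disjoint_iff.mp (Subgroup.subgroupOf_eq_bot.mp e))
  have hDNp : IsPGroup 2 DN := hDp.comap_of_injective N.subtype N.subtype_injective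
  obtain ⟨k, q, hl⟩ := exists_local (h.subgroup N) (N := Nat.card G) IH hlt.le DN hDNp hDNne hmax hnn
  have hcd : Nat.card DN = Nat.card D := Nat.card_congr (Subgroup.subgroupOfEquivOfLe hDN).toEquiv
  have hshape := hl.bounds hDNp hDNne
  rw [hcd] at hshape
  have hexp : ∀ x ∈ D, x * x = 1 := fun x hx =>
    congrArg Subtype.val (hl.exp ⟨x, hDN hx⟩ (Subgroup.mem_subgroupOf.mpr hx))
  have hfix : ∀ t ∈ N, t ∉ D → t * t ∈ D →
      Nat.card ↥(D ⊓ Subgroup.centralizer ({t} : Set G)) ^ 2 = Nat.card D := by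
    intro t ht htD htt
    have e := hl.fixed ⟨t, ht⟩ (fun hh => htD (Subgroup.mem_subgroupOf.mp hh))
      (Subgroup.mem_subgroupOf.mpr htt)
    have e2 : DN ⊓ Subgroup.centralizer ({(⟨t, ht⟩ : N)} : Set N) =
        (D ⊓ Subgroup.centralizer ({t} : Set G)).subgroupOf N := by
      ext y
      simp only [DN, Subgroup.mem_inf, Subgroup.mem_subgroupOf,
        Subgroup.mem_centralizer_singleton_iff, Subtype.ext_iff, Subgroup.coe_mul]
    rw [e2, Nat.card_congr (Subgroup.subgroupOfEquivOfLe (inf_le_left.trans hDN)).toEquiv, hcd] at e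
    exact e
  have hTcard : Nat.card T = Nat.card D * k := by
    rw [← hcd, ← hl.card_sylow TN]
    exact (Nat.card_congr (Subgroup.subgroupOfEquivOfLe inf_le_right).toEquiv).symm
  have hTk : D.relIndex T = k := by
    have := Subgroup.relIndex_mul_relIndex ⊥ D T bot_le (le_inf hDS hDN)
    rw [Subgroup.relIndex_bot_left, Subgroup.relIndex_bot_left, hTcard] at this
    exact Nat.eq_of_mul_eq_mul_left Nat.card_pos this
  have hk2 : k = 2 ∧ 4 ≤ Nat.card D ∨ k = 4 ∧ 16 ≤ Nat.card D := by omega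
  -- `D` is normal in `S`
  have hle : (S : Subgroup G) ≤ N := by
    by_contra hnot
    have hTne : T ≠ (S : Subgroup G) := fun e => hnot (inf_eq_left.mp e)
    obtain ⟨s, hs, hsT, hsn, hss⟩ := exists_normalizing h S T inf_le_left hTne
    set E := MulAut.conj s • D with hEdef
    have hTconj : ∀ y, y ∈ T → s * y * s⁻¹ ∈ T := fun y hy =>
      (Subgroup.mem_normalizer_iff.mp hsn y).mp hy
    have hmemE : ∀ y ∈ D, s * y * s⁻¹ ∈ E := fun y hy =>
      Subgroup.smul_mem_pointwise_smul y (MulAut.conj s) D hy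
    have hofE : ∀ y ∈ E, s⁻¹ * y * s ∈ D := fun y hy => mem_conj_smul.mp hy
    have hET : E ≤ T := fun y hy => by
      simpa [mul_assoc] using hTconj _ ((le_inf hDS hDN) (hofE y hy))
    have hcard : Nat.card E = Nat.card D :=
      (Nat.card_congr (Subgroup.equivSMul (MulAut.conj s) D).toEquiv).symm
    have hED : ¬ E ≤ D := fun hle' => hsT ⟨hs, mem_normalizer_of_conj_smul_eq
      (Subgroup.eq_of_le_of_card_ge hle' hcard.ge)⟩
    have hEexp : ∀ y ∈ E, y * y = 1 := fun y hy => by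
      have := hexp _ (hofE y hy)
      calc y * y = s * ((s⁻¹ * y * s) * (s⁻¹ * y * s)) * s⁻¹ := by group
        _ = 1 := by rw [this]; group
    obtain ⟨hd, hck, hgen, hcap, hcent⟩ := pair (le_inf hDS hDN) hET inf_le_right hTk hcard hED
      hexp hEexp (fun t ht => hfix t ht.2) hk2
    have hconjD : ∀ y ∈ D, ∀ g ∈ T, g * y * g⁻¹ ∈ D := fun y hy g hg =>
      (Subgroup.mem_normalizer_iff.mp hg.2 y).mp hy
    have hEs : ∀ y ∈ E, s * y * s⁻¹ ∈ D := fun y hy => by
      have := hconjD _ (hofE y hy) _ hss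
      simpa [mul_assoc] using this
    have hDs' : ∀ y ∈ D, s⁻¹ * y * s ∈ E := fun y hy => by
      have := hmemE _ (hconjD y hy _ (T.inv_mem hss))
      simpa [mul_assoc] using this
    have hconjE : ∀ y ∈ E, ∀ g ∈ T, g * y * g⁻¹ ∈ E := fun y hy g hg => by
      have hg' : s⁻¹ * g * s ∈ T := by
        refine (Subgroup.mem_normalizer_iff.mp hsn _).mpr ?_
        simpa [mul_assoc] using hg
      have := hmemE _ (hconjD _ (hofE y hy) _ hg')
      simpa [mul_assoc] using this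
    obtain ⟨a, ha, b, hb, hab⟩ := hgen _ hss
    have haT : a ∈ T := (le_inf hDS hDN) ha
    have hbT : b ∈ T := hET hb
    set a1 := s * a * s⁻¹ with ha1def
    set b1 := s * b * s⁻¹ with hb1def
    have ha1 : a1 ∈ E := hmemE a ha
    have hb1 : b1 ∈ D := hEs b hb
    have hab1 : a1 * b1 = a * b := by
      rw [ha1def, hb1def]
      calc s * a * s⁻¹ * (s * b * s⁻¹) = s * (a * b) * s⁻¹ := by group
        _ = s * (s * s) * s⁻¹ := by rw [hab]
        _ = a * b := by rw [← hab]; group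
    -- `a1` is congruent to `b` modulo the intersection
    have hcong : a1 * b⁻¹ ∈ D ⊓ E := by
      refine ⟨?_, E.mul_mem ha1 (E.inv_mem hb)⟩
      have e3 : a1 * b⁻¹ = (a1 * b1 * a1⁻¹)⁻¹ * a := by
        calc a1 * b⁻¹ = a1 * b1⁻¹ * a1⁻¹ * ((a1 * b1) * b⁻¹) := by group
          _ = a1 * b1⁻¹ * a1⁻¹ * a := by rw [hab1]; group
          _ = _ := by group
      rw [e3]
      exact D.mul_mem (D.inv_mem (hconjD b1 hb1 a1 (hET ha1))) ha
    set c := a1 * b⁻¹ with hcdef
    -- `(b a)²` lies in the intersection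
    have hainv : a⁻¹ = a := inv_eq_of_mul_eq_one_left (hexp a ha)
    have hbinv : b⁻¹ = b := inv_eq_of_mul_eq_one_left (hEexp b hb)
    have hba : b * a * b * a ∈ D ⊓ E := by
      refine ⟨D.mul_mem ?_ ha, ?_⟩
      · simpa [hbinv] using hconjD a ha b hbT
      · have h1 := E.mul_mem hb (hconjE b hb a haT)
        rw [hainv] at h1
        simpa [mul_assoc] using h1
    set s1 := s * a with hs1def
    have hs1S : s1 ∈ (S : Subgroup G) := mul_mem hs (hDS ha)
    have hs1sq : s1 * s1 = c * (b * a * b * a) := by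
      rw [hs1def, hcdef]
      calc s * a * (s * a) = a1 * (s * s) * a := by simp only [ha1def, hs1def]; group
        _ = a1 * (a * b) * a := by rw [hab]
        _ = a1 * b⁻¹ * (b * a * b * a) := by group
    have hc1 : s1 * s1 ∈ D ⊓ E := hs1sq ▸ mul_mem hcong hba
    obtain ⟨x, hx, hxE⟩ : ∃ x ∈ D, x ∉ E := by
      by_contra hall
      push Not at hall
      exact hED (Subgroup.eq_of_le_of_card_ge hall hcard.le).ge
    set y := s1 * x * s1⁻¹ with hydef
    have hyE : y ∈ E := by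
      have h1 := hmemE _ (hconjD x hx a haT)
      rw [hydef, hs1def]
      simpa [mul_assoc] using h1
    have hyD : y ∉ D := by
      intro hy
      apply hxE
      have h1 := hconjE _ (hDs' y hy) _ (T.inv_mem haT)
      have e : x = a⁻¹ * (s⁻¹ * y * s) * a⁻¹⁻¹ := by rw [hydef, hs1def]; group
      rw [e]
      exact h1
    have hxy : Commute x y := by
      set c1 := s1 * s1 with hc1def
      have hcx : Commute c1 x := hcent c1 hc1 x ((le_inf hDS hDN) hx)
      have hcy : Commute c1 y := hcent c1 hc1 y (hET hyE)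
      have hcc : c1 * c1 = 1 := hexp c1 hc1.1
      have e : s1 * x * (s1 * x) = y * c1 * x := by rw [hydef, hc1def]; group
      have h4 := pow_four_of_mem h S (mul_mem hs1S (hDS hx))
      rw [show (s1 * x) ^ 4 = (s1 * x * (s1 * x)) * (s1 * x * (s1 * x)) by
        simp [pow_succ, mul_assoc], e] at h4
      have h5 : (y * x) * (y * x) = 1 := by
        calc y * x * (y * x) = y * x * (y * x) * (c1 * c1) := by rw [hcc, mul_one]
          _ = y * (x * (y * (x * c1))) * c1 := by group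
          _ = y * (x * (y * (c1 * x))) * c1 := by rw [hcx.eq]
          _ = y * (x * (y * c1 * x) * c1) := by group
          _ = y * (c1 * (x * (y * c1 * x))) := by
            rw [((hcx.mul_right ((hcy.mul_right (Commute.refl c1)).mul_right hcx))).eq]
          _ = y * c1 * x * (y * c1 * x) := by group
          _ = 1 := h4
      exact (mul_sq_of_comm (hEexp y hyE) (hexp x hx) h5).symm
    exact hxE (hcap y hyE hyD x hx hxy)
  -- consequences
  have hTS : T = (S : Subgroup G) := inf_eq_left.mpr hle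
  rw [hTS] at hTcard hTk
  have hSylN : ∀ n : G, n ∈ N → ((n • S : Sylow 2 G) : Subgroup G) ≤ N := fun n hn =>
    Sylow.smul_le hle (⟨n, hn⟩ : N)
  have hDn : ∀ n : G, n ∈ N → D ≤ ((n • S : Sylow 2 G) : Subgroup G) := fun n hn => by
    rw [Sylow.coe_subgroup_smul, ← conj_smul_eq_of_mem hn]
    exact Subgroup.pointwise_smul_le_pointwise_smul_iff.mpr hDS
  have hconj : ∀ R : Sylow 2 G, D ≤ (R : Subgroup G) → ∃ n ∈ N, n • S = R := by
    intro R hR
    by_cases hRS : R = S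
    · exact ⟨1, N.one_mem, by rw [one_smul, hRS]⟩
    obtain ⟨x, hxR, hxD, hxN, -⟩ := exists_normalizing h R D hR (hDneS R hRS hR)
    have hV : IsPGroup 2 (((R : Subgroup G) ⊓ N).subgroupOf N) :=
      (R.2.to_le inf_le_left).comap_of_injective N.subtype N.subtype_injective
    obtain ⟨T', hT'⟩ := hV.exists_le_sylow
    obtain ⟨n, rfl⟩ := MulAction.exists_smul_eq N (S.subtype hle) T'
    refine ⟨n, n.2, ?_⟩
    by_contra hne
    have hx1 := hT' (show (⟨x, hxN⟩ : N) ∈ _ from Subgroup.mem_subgroupOf.mpr ⟨hxR, hxN⟩)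
    rw [Sylow.smul_subtype, Sylow.coe_subtype, Subgroup.mem_subgroupOf] at hx1
    have hsp := hD.smul (n : G)
    rw [conj_smul_eq_of_mem n.2] at hsp
    exact hxD (hsp.eq R (fun e => hne e.symm) hR ▸ ⟨hx1, hxR⟩)
  refine ⟨k, q, ⟨hle, hexp, fun t ht => hfix t (hle ht), hshape, ?_, hlt, hTcard, hTk, ?_, hconj⟩⟩
  · rw [← hcd]; exact hl.card_eq
  · rw [← hl.number]
    have hRN : ∀ R : {R : Sylow 2 G // D ≤ (R : Subgroup G)}, (R.1 : Subgroup G) ≤ N := fun R => by
      obtain ⟨n, hn, e⟩ := hconj R.1 R.2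
      exact e ▸ hSylN n hn
    refine Nat.card_congr (Equiv.ofBijective (fun R => R.1.subtype (hRN R)) ⟨?_, ?_⟩)
    · intro R R' e
      exact Subtype.ext (Sylow.subtype_injective e)
    · intro T'
      obtain ⟨n, rfl⟩ := MulAction.exists_smul_eq N (S.subtype hle) T'
      exact ⟨⟨(n : G) • S, hDn n n.2⟩, (Sylow.smul_subtype hle n).symm⟩

end Cfsg.Agent.Lib.SpecFive
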