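import Cfsg.Agent.Lib.SpecFive.Odd

/-!
Elements of order at most five: a normal 2-subgroup on which an element of order 3 or 5,
inverted by an involution, acts is elementary abelian, and the involution fixes exactly the
square root of its order.
-/

set_option autoImplicit false

namespace Cfsg.Agent.Lib.SpecFive

variable {G : Type*} [Group G]

/-- Conjugation. -/
def cj (x n : G) : G := x * n * x⁻¹

theorem cj_mul (x a b : G) : cj x (a * b) = cj x a * cj x b := by simp [cj, mul_assoc]
theorem cj_inv (x a : G) : cj x a⁻¹ = (cj x a)⁻¹ := by simp [cj, mul_assoc]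
theorem cj_cj (x y a : G) : cj x (cj y a) = cj (x * y) a := by simp [cj, mul_assoc]
theorem cj_one (a : G) : cj 1 a = a := by simp [cj]
theorem cj_self_one (x : G) : cj x 1 = 1 := by simp [cj]

theorem cj_eq_self {x a : G} : cj x a = a ↔ Commute x a := mul_inv_eq_iff_eq_mul

theorem cj_mem {E : Subgroup G} [hE : E.Normal] {a : G} (ha : a ∈ E) (x : G) : cj x a ∈ E :=
  hE.conj_mem a ha x

variable [Finite G]

theorem eq_one_of_commute_two (h : P5 G) {E : Subgroup G} (hE : IsPGroup 2 E) {a n : G}
    (ha : orderOf a = 3 ∨ orderOf a = 5) (hn : n ∈ E) (hc : Commute a n) : n = 1 := by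
  have : Fact (Nat.Prime 2) := ⟨Nat.prime_two⟩
  by_contra hn1
  refine false_of_commute h (p := orderOf a) ?_ Nat.prime_two (by omega) dvd_rfl
    (prime_dvd_orderOf hE hn hn1) hc
  rcases ha with e | e <;> rw [e] <;> norm_num

theorem orderOf_pow_two_pow (_h : P5 G) {a : G} (ha : orderOf a = 3 ∨ orderOf a = 5) :
    orderOf (a ^ 2) = 3 ∨ orderOf (a ^ 2) = 5 := by
  have : orderOf (a ^ 2) = orderOf a :=
    Nat.Coprime.orderOf_pow (by rcases ha with e | e <;> rw [e] <;> norm_num)
  rwa [this]

/-- All elements of the coset `aE` are `E`-conjugates of `a`. -/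
theorem exists_conj_of_coset (h : P5 G) {E : Subgroup G} [E.Normal] (hE : IsPGroup 2 E) {a b : G}
    (ha : orderOf a = 3 ∨ orderOf a = 5) (hab : a⁻¹ * b ∈ E) : ∃ e ∈ E, cj e a = b := by
  let f : E → E := fun e => ⟨a⁻¹ * cj (e : G) a, by
    have : a⁻¹ * cj (e : G) a = (a⁻¹ * e * a) * (e : G)⁻¹ := by simp [cj, mul_assoc]
    rw [this]
    exact E.mul_mem (by simpa [cj] using cj_mem e.2 a⁻¹) (E.inv_mem e.2)⟩
  have hf : Function.Injective f := by
    intro x y hxy
    have e1 : cj (x : G) a = cj (y : G) a := mul_left_cancel (congrArg Subtype.val hxy)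
    have e2 : Commute a ((y : G)⁻¹ * x) := by
      have : cj ((y : G)⁻¹ * x) a = a := by
        rw [← cj_cj, e1, cj_cj, inv_mul_cancel, cj_one]
      exact (cj_eq_self.mp this).symm
    have := eq_one_of_commute_two h hE ha (E.mul_mem (E.inv_mem y.2) x.2) e2
    exact Subtype.ext (inv_mul_eq_one.mp this).symm
  obtain ⟨e, he⟩ := (Finite.injective_iff_surjective.mp hf) ⟨_, hab⟩
  exact ⟨e, e.2, mul_left_cancel (congrArg Subtype.val he)⟩

/-- Lifting: if `t` inverts `a` modulo `E`, some element of `Et` is an involution inverting `a`. -/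
theorem exists_involution_inverting (h : P5 G) {E : Subgroup G} [E.Normal] (hE : IsPGroup 2 E)
    {a t : G} (ha : orderOf a = 3 ∨ orderOf a = 5) (ht : t * t ∈ E) (hta : a * cj t a ∈ E) :
    ∃ u, u * u = 1 ∧ cj u a = a⁻¹ ∧ u * t⁻¹ ∈ E := by
  obtain ⟨e, he, hea⟩ := exists_conj_of_coset h hE (a := a⁻¹) (b := cj t a)
    (by rwa [orderOf_inv]) (by rwa [inv_inv])
  refine ⟨e⁻¹ * t, ?_, ?_, by simpa [mul_assoc] using E.inv_mem he⟩
  · have hu : cj (e⁻¹ * t) a = a⁻¹ := by rw [← cj_cj, ← hea, cj_cj, inv_mul_cancel, cj_one]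
    have hc : cj ((e⁻¹ * t) * (e⁻¹ * t)) a = a := by
      rw [← cj_cj, hu, cj_inv, hu, inv_inv]
    refine eq_one_of_commute_two h hE ha ?_ (cj_eq_self.mp hc).symm
    have e1 : e⁻¹ * t * (e⁻¹ * t) = e⁻¹ * cj t e⁻¹ * (t * t) := by simp [cj, mul_assoc]
    rw [e1]
    exact E.mul_mem (E.mul_mem (E.inv_mem he) (cj_mem (E.inv_mem he) t)) ht
  · rw [← cj_cj, ← hea, cj_cj, inv_mul_cancel, cj_one]

theorem notMem_of_inverts (h : P5 G) {E : Subgroup G} [E.Normal] (hE : IsPGroup 2 E) {a u : G}
    (ha : orderOf a = 3 ∨ orderOf a = 5) (hu : cj u a = a⁻¹) : u ∉ E := by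
  intro huE
  have h1 : u * cj a u⁻¹ ∈ E := E.mul_mem huE (cj_mem (E.inv_mem huE) a)
  have e : u * cj a u⁻¹ = cj u a * a⁻¹ := by simp [cj, mul_assoc]
  rw [e, hu] at h1
  have h2 : a ^ 2 ∈ E := by
    have := E.inv_mem h1
    rwa [mul_inv_rev, inv_inv, ← sq] at this
  have h3 := eq_one_of_commute_two h hE ha h2 ((Commute.refl a).pow_right 2)
  have := orderOf_dvd_iff_pow_eq_one.mpr h3
  rcases ha with e | e <;> rw [e] at this <;> norm_num at this

theorem sq_mul_cj_sq (h : P5 G) {E : Subgroup G} [E.Normal] {u : G} (hu : u * u = 1) (huE : u ∉ E)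
    {n : G} (hn : n ∈ E) : (n * cj u n) * (n * cj u n) = 1 := by
  have hev : 2 ∣ orderOf (n * u) := by
    have h1 : orderOf (QuotientGroup.mk' E (n * u)) = 2 := by
      refine orderOf_eq_prime ?_ ?_
      · rw [map_mul, show QuotientGroup.mk' E n = 1 from (QuotientGroup.eq_one_iff n).mpr hn,
          one_mul, ← map_pow, sq, hu, map_one]
      · rw [map_mul, show QuotientGroup.mk' E n = 1 from (QuotientGroup.eq_one_iff n).mpr hn,
          one_mul]
        exact fun e => huE ((QuotientGroup.eq_one_iff u).mp e)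
    exact h1.symm.dvd.trans (orderOf_map_dvd _ _)
  have h4 := pow_four_eq_one h hev
  have e : n * u * (n * u) = n * cj u n := by
    rw [cj, inv_eq_of_mul_eq_one_left hu]; simp [mul_assoc]
  rw [← e]
  calc n * u * (n * u) * (n * u * (n * u)) = (n * u) ^ 4 := by simp [pow_succ, mul_assoc]
    _ = 1 := h4

omit [Finite G] in
theorem mul_sq_of_comm {x y : G} (hx : x * x = 1) (hy : y * y = 1)
    (hxy : (x * y) * (x * y) = 1) : x * y = y * x := by
  have hxi : x⁻¹ = x := inv_eq_of_mul_eq_one_left hx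
  have hyi : y⁻¹ = y := inv_eq_of_mul_eq_one_left hy
  calc x * y = (x * y)⁻¹ := (inv_eq_of_mul_eq_one_left hxy).symm
    _ = y * x := by rw [mul_inv_rev, hxi, hyi]

/-- A normal 2-subgroup acted on by an element of order 3 or 5 inverted by an involution has
exponent at most 2. -/
theorem mul_self_eq_one {G : Type*} [Group G] [Finite G] (h : P5 G) (E : Subgroup G) [E.Normal]
    (hE : IsPGroup 2 E) {a u : G} (ha : orderOf a = 3 ∨ orderOf a = 5) (hu : u * u = 1)
    (hua : cj u a = a⁻¹) : ∀ n ∈ E, n * n = 1 := by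
  induction hn : Nat.card E using Nat.strong_induction_on generalizing G with
  | _ N ih =>
    have : Fact (Nat.Prime 2) := ⟨Nat.prime_two⟩
    rcases eq_or_ne E ⊥ with rfl | hne
    · intro n hn'; rw [Subgroup.mem_bot.mp hn', one_mul]
    have hau : (a * u) * (a * u) = 1 := by
      have : cj u a = a⁻¹ := hua
      rw [cj, inv_eq_of_mul_eq_one_left hu] at this
      calc a * u * (a * u) = a * (u * a * u) := by group
        _ = 1 := by rw [this, mul_inv_cancel]
    have haua : cj (a * u) a = a⁻¹ := by rw [← cj_cj, hua, cj]; group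
    have huE := notMem_of_inverts h hE ha hua
    have hauE := notMem_of_inverts h hE ha haua
    -- it suffices to show that `E` is commutative
    suffices hcomm : ∀ x ∈ E, ∀ y ∈ E, x * y = y * x by
      intro n hn'
      have key : ∀ v : G, v * v = 1 → v ∉ E → cj v (n * n) = (n * n)⁻¹ := by
        intro v hv hvE
        have h1 := sq_mul_cj_sq h hv hvE hn'
        refine eq_inv_of_mul_eq_one_right ?_
        rw [cj_mul]
        calc n * n * (cj v n * cj v n) = n * (n * cj v n) * cj v n := by group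
          _ = n * (cj v n * n) * cj v n := by rw [hcomm n hn' _ (cj_mem hn' v)]
          _ = 1 := by rw [← h1]; group
      have h2 := key (a * u) hau hauE
      rw [← cj_cj, key u hu huE, cj_inv, inv_inj] at h2
      exact eq_one_of_commute_two h hE ha (E.mul_mem hn' hn') (cj_eq_self.mp h2)
    -- the central involutions
    let W : Subgroup G :=
      { carrier := {z | z ∈ E ∧ (∀ e ∈ E, z * e = e * z) ∧ z * z = 1}
        one_mem' := ⟨E.one_mem, fun e _ => by simp, one_mul 1⟩
        mul_mem' := fun {x y} hx hy => ⟨E.mul_mem hx.1 hy.1,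
          fun e he => by rw [mul_assoc, hy.2.1 e he, ← mul_assoc, hx.2.1 e he, mul_assoc],
          by
            rw [mul_assoc, ← mul_assoc y, hy.2.1 x hx.1, mul_assoc, hy.2.2, mul_one, hx.2.2]⟩
        inv_mem' := fun {x} hx => by rwa [inv_eq_of_mul_eq_one_left hx.2.2] }
    have hW : W.Normal := by
      refine ⟨fun z hz g => ⟨cj_mem hz.1 g, fun e he => ?_, ?_⟩⟩
      · have h1 := congrArg (cj g) (hz.2.1 (cj g⁻¹ e) (cj_mem he _))
        rwa [cj_mul, cj_mul, cj_cj, mul_inv_cancel, cj_one] at h1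
      · show cj g z * cj g z = 1
        rw [← cj_mul, hz.2.2, cj_self_one]
    have hWE : W ≤ E := fun z hz => hz.1
    have hWne : W ≠ ⊥ := by
      have : Nontrivial E := (Subgroup.nontrivial_iff_ne_bot E).mpr hne
      have hc := hE.center_nontrivial
      have hd : 2 ∣ Nat.card (Subgroup.center E) :=
        ((hE.to_subgroup _).card_eq_or_dvd).resolve_left (Finite.one_lt_card (α := Subgroup.center E)).ne'
      obtain ⟨z, hz⟩ := exists_prime_orderOf_dvd_card' (G := Subgroup.center E) 2 hd
      intro hb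
      have hzW : ((z : E) : G) ∈ W := by
        refine ⟨(z : E).2, fun e he => congrArg Subtype.val
          (Subgroup.mem_center_iff.mp z.2 ⟨e, he⟩).symm, ?_⟩
        have := pow_orderOf_eq_one z
        rw [hz, sq] at this
        exact congrArg (fun x : Subgroup.center E => ((x : E) : G)) this
      rw [hb, Subgroup.mem_bot] at hzW
      have : z = 1 := Subtype.ext (Subtype.ext hzW)
      rw [this, orderOf_one] at hz
      omega
    set π := QuotientGroup.mk' W with hπ
    have hπs : Function.Surjective π := QuotientGroup.mk'_surjective W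
    have : (E.map π).Normal := Subgroup.Normal.map inferInstance π hπs
    have hlt : Nat.card (E.map π) < N := by
      rw [← hn, ← Subgroup.relIndex_ker, hπ, QuotientGroup.ker_mk']
      have h2 : Nat.card W * W.relIndex E = Nat.card E := by
        rw [← Subgroup.relIndex_bot_left W, Subgroup.relIndex_mul_relIndex _ _ _ bot_le hWE,
          Subgroup.relIndex_bot_left]
      have h3 : 1 < Nat.card W := (Subgroup.one_lt_card_iff_ne_bot W).mpr hWne
      have h4 : 0 < W.relIndex E := Nat.pos_of_ne_zero fun e => by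
        rw [e, mul_zero] at h2; exact Nat.card_pos.ne' h2.symm
      nlinarith [h2, h3, h4]
    have hoa : orderOf (π a) = orderOf a := by
      have hpr : (orderOf a).Prime := by rcases ha with e | e <;> rw [e] <;> norm_num
      refine (hpr.eq_one_or_self_of_dvd _ (orderOf_map_dvd π a)).resolve_left fun e => ?_
      have haW : a ∈ W := (QuotientGroup.eq_one_iff a).mp (orderOf_eq_one_iff.mp e)
      have := eq_one_of_commute_two h hE ha (hWE haW) (Commute.refl a)
      rw [this, orderOf_one] at ha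
      omega
    have hP := h.quotient W
    have hEq : IsPGroup 2 (E.map π) := hE.map π
    have hexp := ih _ hlt hP (E.map π) hEq (a := π a) (u := π u) (by rwa [hoa])
      (by rw [← map_mul, hu, map_one]) (by rw [← map_inv, ← hua]; simp [cj]) rfl
    have hcommq : ∀ x ∈ E.map π, ∀ y ∈ E.map π, x * y = y * x := fun x hx y hy =>
      mul_sq_of_comm (hexp x hx) (hexp y hy) (hexp _ ((E.map π).mul_mem hx hy))
    have hmodW : ∀ {x y : G}, π x = π y → ∃ w ∈ W, x = y * w := fun {x y} hxy =>
      ⟨y⁻¹ * x, (QuotientGroup.eq).mp hxy.symm, by group⟩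
    have hcu : ∀ n ∈ E, π (cj u (n * cj u n)) = π (n * cj u n) := by
      intro n hn'
      rw [cj_mul, cj_cj, hu, cj_one, map_mul, map_mul,
        hcommq _ (Subgroup.mem_map_of_mem π (cj_mem hn' u)) _ (Subgroup.mem_map_of_mem π hn')]
    -- isotropy
    have hiso : ∀ n ∈ E, ∀ m ∈ E, (n * cj u n) * (m * cj u m) = (m * cj u m) * (n * cj u n) := by
      intro n hn' m hm
      refine mul_sq_of_comm (sq_mul_cj_sq h hu huE hn') (sq_mul_cj_sq h hu huE hm) ?_
      obtain ⟨w, hw, hw'⟩ := hmodW (x := n * cj u n * (m * cj u m)) (y := n * m * cj u (n * m)) (by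
        simp only [cj_mul, map_mul]
        have := hcommq _ (Subgroup.mem_map_of_mem π (cj_mem hn' u)) _ (Subgroup.mem_map_of_mem π hm)
        calc π n * π (cj u n) * (π m * π (cj u m)) = π n * (π (cj u n) * π m) * π (cj u m) := by
              group
          _ = π n * (π m * π (cj u n)) * π (cj u m) := by rw [this]
          _ = π n * π m * (π (cj u n) * π (cj u m)) := by group)
      set z := n * m * cj u (n * m) with hz
      have hzE : z ∈ E := E.mul_mem (E.mul_mem hn' hm) (cj_mem (E.mul_mem hn' hm) u)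
      rw [hw']
      calc z * w * (z * w) = z * (w * z) * w := by group
        _ = z * (z * w) * w := by rw [hw.2.1 z hzE]
        _ = (z * z) * (w * w) := by group
        _ = 1 := by rw [sq_mul_cj_sq h hu huE (E.mul_mem hn' hm), hw.2.2, mul_one]
    let C : Set G := (fun n => n * cj u n) '' (E : Set G)
    have hCE : ∀ c ∈ C, c ∈ E := by rintro _ ⟨n, hn', rfl⟩; exact E.mul_mem hn' (cj_mem hn' u)
    have hCC : ∀ c ∈ C, ∀ d ∈ C, c * d = d * c := by
      rintro _ ⟨n, hn', rfl⟩ _ ⟨m, hm, rfl⟩; exact hiso n hn' m hm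
    -- the commutator pairing
    let K : G → G → G := fun x y => x * y * x⁻¹ * y⁻¹
    have hKW : ∀ x ∈ E, ∀ y ∈ E, K x y ∈ W := by
      intro x hx y hy
      have := hcommq _ (Subgroup.mem_map_of_mem π hx) _ (Subgroup.mem_map_of_mem π hy)
      refine (QuotientGroup.eq_one_iff _).mp ?_
      show π (K x y) = 1
      simp only [K, map_mul, map_inv, this]; group
    have hKsymm : ∀ x ∈ E, ∀ y ∈ E, K x y = K y x := by
      intro x hx y hy
      have e : K y x = (K x y)⁻¹ := by simp only [K]; group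
      rw [e, inv_eq_of_mul_eq_one_left (hKW x hx y hy).2.2]
    have hcjC : ∀ c ∈ C, ∀ e ∈ C, K c (cj a e) = 1 := by
      have step : ∀ c ∈ C, ∀ e ∈ C, cj a (K c (cj a e)) = K e (cj a c) := by
        intro c hc e he
        have hcE := hCE c hc
        have heE := hCE e he
        have hd : cj a e * cj u (cj a e) ∈ C := ⟨cj a e, cj_mem heE a, rfl⟩
        set d := cj a e * cj u (cj a e) with hddef
        obtain ⟨w, hw, hw'⟩ := hmodW (x := cj a (cj a e)) (y := cj a d * e) (by
          obtain ⟨m, hm, rfl⟩ := he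
          set e := m * cj u m
          have h1 : π (cj u e) = π e := hcu m hm
          have h2 : cj a d = cj a (cj a e) * cj u e := by
            rw [hddef, cj_mul, cj_cj u a, show cj a (cj (u * a) e) = cj (a * (u * a)) e from cj_cj ..]
            congr 2
            have : cj u a = a⁻¹ := hua
            rw [cj] at this
            calc a * (u * a) = a * (u * a * u⁻¹) * u := by group
              _ = u := by rw [this, mul_inv_cancel, one_mul]
          have h3 : π e * π e = 1 := hexp _ (Subgroup.mem_map_of_mem π heE)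
          rw [h2, map_mul, map_mul, h1, mul_assoc, h3, mul_one])
        have e1 : cj a (K c (cj a e)) = K (cj a c) (cj a (cj a e)) := by
          simp only [K, cj_mul, cj_inv]
        have hwc := hw.2.1 _ (cj_mem hcE a)
        have e2 : K (cj a c) (cj a (cj a e)) = K (cj a c) (cj a d * e) := by
          rw [hw']
          simp only [K]
          calc cj a c * (cj a d * e * w) * (cj a c)⁻¹ * (cj a d * e * w)⁻¹
              = cj a c * (cj a d * e) * (w * (cj a c)⁻¹) * w⁻¹ * (cj a d * e)⁻¹ := by group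
            _ = cj a c * (cj a d * e) * ((cj a c)⁻¹ * w) * w⁻¹ * (cj a d * e)⁻¹ := by
                rw [hw.2.1 _ (E.inv_mem (cj_mem hcE a))]
            _ = cj a c * (cj a d * e) * (cj a c)⁻¹ * (cj a d * e)⁻¹ := by group
        have h4 : cj a c * cj a d = cj a d * cj a c := by
          rw [← cj_mul, hCC c hc d hd, cj_mul]
        have hk := hKW (cj a c) (cj_mem hcE a) e heE
        have e3 : K (cj a c) (cj a d * e) = K (cj a c) e := by
          simp only [K] at hk ⊢
          calc cj a c * (cj a d * e) * (cj a c)⁻¹ * (cj a d * e)⁻¹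
              = (cj a c * cj a d) * e * (cj a c)⁻¹ * e⁻¹ * (cj a d)⁻¹ := by group
            _ = (cj a d * cj a c) * e * (cj a c)⁻¹ * e⁻¹ * (cj a d)⁻¹ := by rw [h4]
            _ = cj a d * (cj a c * e * (cj a c)⁻¹ * e⁻¹) * (cj a d)⁻¹ := by group
            _ = (cj a c * e * (cj a c)⁻¹ * e⁻¹) * cj a d * (cj a d)⁻¹ := by
                rw [hk.2.1 _ (cj_mem (hCE d hd) a)]
            _ = _ := by group
        rw [e1, e2, e3, hKsymm _ (cj_mem hcE a) _ heE]
      intro c hc e he
      have h2 : cj (a * a) (K c (cj a e)) = K c (cj a e) := by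
        rw [← cj_cj, step c hc e he, step e he c hc]
      refine eq_one_of_commute_two h hE (a := a ^ 2) (orderOf_pow_two_pow h ha)
        (hWE (hKW c (hCE c hc) _ (cj_mem (hCE e he) a))) ?_
      rw [sq]; exact cj_eq_self.mp h2
    let gens : Set G := (C ∪ cj a '' C) ∪ W
    have hgens : ∀ x ∈ gens, x ∈ E := by
      rintro x ((hx | ⟨c, hc, rfl⟩) | hx)
      exacts [hCE x hx, cj_mem (hCE c hc) a, hWE hx]
    have hgc : ∀ x ∈ gens, ∀ y ∈ gens, x * y = y * x := by
      have hcross : ∀ c ∈ C, ∀ e ∈ C, c * cj a e = cj a e * c := by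
        intro c hc e he
        have h0 : c * cj a e * c⁻¹ * (cj a e)⁻¹ = 1 := hcjC c hc e he
        exact mul_inv_eq_iff_eq_mul.mp (mul_inv_eq_one.mp h0)
      intro x hx y hy
      rcases hy with hy' | hy'
      · rcases hx with hx' | hx'
        · rcases hx' with hx'' | ⟨c, hc, rfl⟩ <;> rcases hy' with hy'' | ⟨e, he, rfl⟩
          · exact hCC x hx'' y hy''
          · exact hcross x hx'' e he
          · exact (hcross y hy'' c hc).symm
          · rw [← cj_mul, hCC c hc e he, cj_mul]
        · exact hx'.2.1 y (hgens y (Or.inl hy'))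
      · exact (hy'.2.1 x (hgens x hx)).symm
    have hL := Subgroup.isMulCommutative_closure (k := gens) hgc
    suffices hEL : E ≤ Subgroup.closure gens by
      intro x hx y hy
      exact congrArg Subtype.val (hL.is_comm.comm (⟨x, hEL hx⟩ : Subgroup.closure gens) ⟨y, hEL hy⟩)
    let Ē := E.map π
    let f : Ē → Ē := fun x => ⟨(x : G ⧸ W) * cj (π a * π a) x,
      Ē.mul_mem x.2 (cj_mem x.2 _)⟩
    have hf : Function.Injective f := by
      intro x y hxy
      have e1 : (x : G ⧸ W) * cj (π a * π a) x = (y : G ⧸ W) * cj (π a * π a) y :=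
        congrArg Subtype.val hxy
      have hyi : (y : G ⧸ W)⁻¹ = y := inv_eq_of_mul_eq_one_left (hexp _ y.2)
      have hxi : (x : G ⧸ W)⁻¹ = x := inv_eq_of_mul_eq_one_left (hexp _ x.2)
      have e2 : cj (π a * π a) ((y : G ⧸ W) * x) = (y : G ⧸ W) * x := by
        have hcj : cj (π a * π a) (y : G ⧸ W) * cj (π a * π a) (y : G ⧸ W) = 1 := by
          rw [← cj_mul, hexp _ y.2, cj_self_one]
        rw [cj_mul]
        calc cj (π a * π a) (y : G ⧸ W) * cj (π a * π a) (x : G ⧸ W)
            = cj (π a * π a) (y : G ⧸ W) * ((x : G ⧸ W)⁻¹ * ((x : G ⧸ W) * cj (π a * π a) x)) := by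
              group
          _ = cj (π a * π a) (y : G ⧸ W) * ((x : G ⧸ W) * y) * cj (π a * π a) (y : G ⧸ W) := by
              rw [e1, hxi]; group
          _ = ((x : G ⧸ W) * y) * (cj (π a * π a) (y : G ⧸ W) * cj (π a * π a) (y : G ⧸ W)) := by
              rw [hcommq _ (cj_mem y.2 _) _ (Ē.mul_mem x.2 y.2)]; group
          _ = (y : G ⧸ W) * x := by rw [hcj, mul_one, hcommq _ x.2 _ y.2]
      have e3 := eq_one_of_commute_two hP hEq (a := π a * π a)
        (by rw [← sq]; exact orderOf_pow_two_pow hP (by rwa [hoa]))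
        (Ē.mul_mem y.2 x.2) (cj_eq_self.mp e2)
      exact Subtype.ext ((eq_inv_of_mul_eq_one_right e3).trans hyi)
    intro x hx
    obtain ⟨⟨_, n, hn', rfl⟩, hy⟩ :=
      Finite.injective_iff_surjective.mp hf ⟨π x, Subgroup.mem_map_of_mem π hx⟩
    have hy' : π n * cj (π a * π a) (π n) = π x := congrArg Subtype.val hy
    obtain ⟨w, hw, hw'⟩ := hmodW (x := x) (y := (n * cj u n) * cj a (cj a n * cj u (cj a n))) (by
      rw [← hy']
      have hu2 : a * (u * a) = u := by
        have : cj u a = a⁻¹ := hua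
        rw [cj] at this
        calc a * (u * a) = a * (u * a * u⁻¹) * u := by group
          _ = u := by rw [this, mul_inv_cancel, one_mul]
      have h1 : cj a (cj a n * cj u (cj a n)) = cj (a * a) n * cj u n := by
        rw [cj_mul, cj_cj, cj_cj u, cj_cj a (u * a), hu2]
      rw [h1]
      have hu3 : π (cj u n) * π (cj u n) = 1 := hexp _ (Subgroup.mem_map_of_mem π (cj_mem hn' u))
      have hc3 := hcommq _ (Subgroup.mem_map_of_mem π (cj_mem hn' u))
        _ (Subgroup.mem_map_of_mem π (cj_mem hn' (a * a)))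
      have hmap : π (cj (a * a) n) = cj (π a * π a) (π n) := by simp [cj]
      calc π n * cj (π a * π a) (π n)
          = π n * π (cj (a * a) n) * (π (cj u n) * π (cj u n)) := by rw [hu3, mul_one, hmap]
        _ = π n * (π (cj (a * a) n) * π (cj u n)) * π (cj u n) := by group
        _ = π n * (π (cj u n) * π (cj (a * a) n)) * π (cj u n) := by rw [hc3]
        _ = π (n * cj u n * (cj (a * a) n * cj u n)) := by simp only [map_mul]; group)
    rw [hw']
    refine Subgroup.mul_mem _ (Subgroup.mul_mem _ ?_ ?_) ?_ <;> apply Subgroup.subset_closure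
    · exact Or.inl (Or.inl ⟨n, hn', rfl⟩)
    · exact Or.inl (Or.inr ⟨_, ⟨cj a n, cj_mem hn' a, rfl⟩, rfl⟩)
    · exact Or.inr hw

/-- The involution fixes the square root of the order. -/
theorem card_fixed_sq (h : P5 G) (E : Subgroup G) [E.Normal] (hE : IsPGroup 2 E) {a u : G}
    (ha : orderOf a = 3 ∨ orderOf a = 5) (hu : u * u = 1) (hua : cj u a = a⁻¹) :
    Nat.card ↥(E ⊓ Subgroup.centralizer ({u} : Set G)) ^ 2 = Nat.card E := by
  have hexp := mul_self_eq_one h E hE ha hu hua
  have hc : ∀ x ∈ E, ∀ y ∈ E, x * y = y * x := fun x hx y hy =>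
    mul_sq_of_comm (hexp x hx) (hexp y hy) (hexp _ (E.mul_mem hx hy))
  let τ : E →* E :=
    { toFun := fun n => ⟨(n : G) * cj u n, E.mul_mem n.2 (cj_mem n.2 u)⟩
      map_one' := Subtype.ext (by simp [cj])
      map_mul' := fun x y => Subtype.ext (by
        show (x : G) * y * cj u ((x : G) * y) = (x : G) * cj u x * ((y : G) * cj u y)
        rw [cj_mul]
        calc (x : G) * y * (cj u x * cj u y) = (x : G) * ((y : G) * cj u x) * cj u y := by group
          _ = (x : G) * (cj u x * y) * cj u y := by rw [hc _ y.2 _ (cj_mem x.2 u)]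
          _ = _ := by group) }
  set C := E ⊓ Subgroup.centralizer ({u} : Set G) with hC
  have hmemC : ∀ n : E, (n : G) ∈ C ↔ cj u n = n := by
    intro n
    rw [hC, Subgroup.mem_inf, Subgroup.mem_centralizer_singleton_iff, cj_eq_self]
    exact ⟨fun h => h.2.symm, fun h => ⟨n.2, h.symm⟩⟩
  have hker : τ.ker = C.subgroupOf E := by
    ext n
    rw [MonoidHom.mem_ker, Subgroup.mem_subgroupOf, hmemC]
    have hni : (n : G)⁻¹ = n := inv_eq_of_mul_eq_one_left (hexp _ n.2)
    constructor
    · intro e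
      have : (n : G) * cj u n = 1 := congrArg Subtype.val e
      exact (eq_inv_of_mul_eq_one_right this).trans hni
    · intro e
      exact Subtype.ext (show (n : G) * cj u n = 1 by rw [e, hexp _ n.2])
  have hrange : τ.range = C.subgroupOf E := by
    apply le_antisymm
    · rintro _ ⟨n, rfl⟩
      rw [Subgroup.mem_subgroupOf, hmemC]
      show cj u ((n : G) * cj u n) = (n : G) * cj u n
      rw [cj_mul, cj_cj, hu, cj_one, hc _ (cj_mem n.2 u) _ n.2]
    · intro c hc'
      let g : C.subgroupOf E → C.subgroupOf E := fun x => ⟨τ ⟨cj a (x : E), cj_mem (x : E).2 a⟩, by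
        rw [Subgroup.mem_subgroupOf, hmemC]
        show cj u (cj a ((x : E) : G) * cj u (cj a ((x : E) : G))) = _
        rw [cj_mul, cj_cj u u, hu, cj_one, hc _ (cj_mem (cj_mem (x : E).2 a) u) _ (cj_mem (x : E).2 a)]
        rfl⟩
      have hval : ∀ x : C.subgroupOf E, ((g x : E) : G) =
          cj a ((x : E) : G) * cj a⁻¹ ((x : E) : G) := by
        intro x
        show cj a ((x : E) : G) * cj u (cj a ((x : E) : G)) = _
        have hx := (hmemC (x : E)).mp (Subgroup.mem_subgroupOf.mp x.2)
        congr 1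
        rw [cj_cj]
        have h2 : u * a = a⁻¹ * u := by
          have : cj u a = a⁻¹ := hua
          rw [← this, cj]; group
        rw [h2, ← cj_cj, hx]
      have hg : Function.Injective g := by
        intro x y hxy
        have e1 := congrArg (fun z : C.subgroupOf E => cj a ((z : E) : G)) hxy
        simp only [hval] at e1
        rw [cj_mul, cj_mul, cj_cj, cj_cj, cj_cj, cj_cj, mul_inv_cancel, cj_one, cj_one] at e1
        set X := ((x : E) : G)
        set Y := ((y : E) : G)
        have hX : X ∈ E := (x : E).2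
        have hY : Y ∈ E := (y : E).2
        have hZ : cj (a * a) (Y⁻¹ * X) = Y * X⁻¹ := by
          rw [cj_mul, cj_inv]
          calc (cj (a * a) Y)⁻¹ * cj (a * a) X
              = (cj (a * a) Y)⁻¹ * (cj (a * a) X * X) * X⁻¹ := by group
            _ = Y * X⁻¹ := by rw [e1]; group
        rw [inv_eq_of_mul_eq_one_left (hexp Y hY), inv_eq_of_mul_eq_one_left (hexp X hX)] at hZ
        have := eq_one_of_commute_two h hE (a := a * a)
          (by rw [← sq]; exact orderOf_pow_two_pow h ha) (E.mul_mem hY hX) (cj_eq_self.mp hZ)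
        exact Subtype.ext (Subtype.ext
          ((eq_inv_of_mul_eq_one_right this).trans (inv_eq_of_mul_eq_one_left (hexp Y hY))))
      obtain ⟨x, hx⟩ := Finite.injective_iff_surjective.mp hg ⟨c, hc'⟩
      exact ⟨_, congrArg Subtype.val hx⟩
  have h1 := τ.ker.card_mul_index
  rw [Subgroup.index_ker, hrange, hker] at h1
  rw [sq, ← h1, Nat.card_congr (Subgroup.subgroupOfEquivOfLe (inf_le_left : C ≤ E)).toEquiv]

/-- No `5 : 4` quotient over a nontrivial 2-subgroup. -/
theorem eq_bot_of_five_four (h : P5 G) (E : Subgroup G) [E.Normal] (hE : IsPGroup 2 E) {a s : G}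
    (ha : orderOf a = 5) (hs4 : s ^ 4 ∈ E) (hs2 : s ^ 2 ∉ E)
    (hsa : (a ^ 2)⁻¹ * cj s a ∈ E ∨ (a ^ 3)⁻¹ * cj s a ∈ E) : E = ⊥ := by
  have hor : ∀ k : ℕ, k = 2 ∨ k = 3 → orderOf (a ^ k) = 3 ∨ orderOf (a ^ k) = 5 := fun k hk => by
    rw [Nat.Coprime.orderOf_pow (by rcases hk with rfl | rfl <;> rw [ha] <;> norm_num)]
    exact Or.inr ha
  obtain ⟨k, hk, s', hs', hss⟩ : ∃ k, (k = 2 ∨ k = 3) ∧ ∃ s', cj s' a = a ^ k ∧ s' * s⁻¹ ∈ E := by
    rcases hsa with hh | hh
    · obtain ⟨e, he, hea⟩ := exists_conj_of_coset h hE (hor 2 (Or.inl rfl)) hh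
      refine ⟨2, Or.inl rfl, e⁻¹ * s, ?_, by simpa [mul_assoc] using E.inv_mem he⟩
      rw [← cj_cj, ← hea, cj_cj, inv_mul_cancel, cj_one]
    · obtain ⟨e, he, hea⟩ := exists_conj_of_coset h hE (hor 3 (Or.inr rfl)) hh
      refine ⟨3, Or.inr rfl, e⁻¹ * s, ?_, by simpa [mul_assoc] using E.inv_mem he⟩
      rw [← cj_cj, ← hea, cj_cj, inv_mul_cancel, cj_one]
  let π := QuotientGroup.mk' E
  have hπ : π s' = π s := by
    have : π (s' * s⁻¹) = 1 := (QuotientGroup.eq_one_iff _).mpr hss
    rwa [map_mul, map_inv, mul_inv_eq_one] at this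
  have hcjp : ∀ (x : G) (n : ℕ), cj x (a ^ n) = (cj x a) ^ n := fun x n => conj_pow.symm
  have hua : cj (s' * s') a = a⁻¹ := by
    rw [← cj_cj, hs', hcjp, hs', ← pow_mul]
    refine eq_inv_of_mul_eq_one_left ?_
    rw [← pow_succ]
    refine orderOf_dvd_iff_pow_eq_one.mp ?_
    rw [ha]; rcases hk with rfl | rfl <;> norm_num
  have hu4 : s' * s' * (s' * s') = 1 := by
    have hmem : s' * s' * (s' * s') ∈ E := by
      refine (QuotientGroup.eq_one_iff _).mp ?_
      show π _ = 1
      rw [map_mul, map_mul, hπ, ← map_mul, ← map_mul]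
      refine (QuotientGroup.eq_one_iff _).mpr ?_
      have : s * s * (s * s) = s ^ 4 := by simp [pow_succ, mul_assoc]
      rwa [this]
    refine eq_one_of_commute_two h hE (Or.inr ha) hmem (cj_eq_self.mp ?_).symm
    rw [← cj_cj, hua, cj_inv, hua, inv_inv]
  have hexp := mul_self_eq_one h E hE (Or.inr ha) hu4 hua
  have hc : ∀ x ∈ E, ∀ y ∈ E, x * y = y * x := fun x hx y hy =>
    mul_sq_of_comm (hexp x hx) (hexp y hy) (hexp _ (E.mul_mem hx hy))
  have hinv : ∀ x ∈ E, x⁻¹ = x := fun x hx => inv_eq_of_mul_eq_one_left (hexp x hx)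
  set u := s' * s' with hudef
  have hfix : ∀ n ∈ E, cj s' (n * cj u n) = n * cj u n := by
    intro n hn
    have hev : 2 ∣ orderOf (n * s') := by
      refine dvd_trans ?_ (orderOf_map_dvd π (n * s'))
      rw [map_mul, show π n = 1 from (QuotientGroup.eq_one_iff n).mpr hn, one_mul, hπ]
      have h4 : orderOf (π s) ∣ 2 ^ 2 := orderOf_dvd_iff_pow_eq_one.mpr (by
        rw [← map_pow]; exact (QuotientGroup.eq_one_iff _).mpr hs4)
      obtain ⟨j, hj, hje⟩ := (Nat.dvd_prime_pow Nat.prime_two).mp h4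
      interval_cases j
      · exact absurd ((QuotientGroup.eq_one_iff _).mp (show π (s ^ 2) = 1 by
          rw [map_pow, orderOf_eq_one_iff.mp (show orderOf (π s) = 1 by simpa using hje), one_pow])) hs2
      · rw [hje]; norm_num
      · rw [hje]; norm_num
    have h4 := pow_four_eq_one h hev
    have e : (n * s') ^ 4 = n * cj s' n * (cj u n * cj s' (cj u n)) * (u * u) := by
      rw [hudef]; simp [cj, pow_succ, mul_assoc]
    rw [h4, hu4, mul_one] at e
    rw [cj_mul]
    have hA := cj_mem (E := E) hn s'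
    have hB := cj_mem (E := E) hn u
    have hD := cj_mem (E := E) hB s'
    have e' : (n * cj u n) * (cj s' n * cj s' (cj u n)) = 1 := by
      rw [e]
      calc n * cj u n * (cj s' n * cj s' (cj u n))
          = n * (cj u n * cj s' n) * cj s' (cj u n) := by group
        _ = n * (cj s' n * cj u n) * cj s' (cj u n) := by rw [hc _ hB _ hA]
        _ = _ := by group
    rw [eq_inv_of_mul_eq_one_right e', hinv _ (E.mul_mem hn hB)]
  have hua' : u * a = a⁻¹ * u := by rw [← hua, cj]; group
  have hC1 : ∀ n ∈ E, n * cj u n = 1 := by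
    intro n hn
    set c := n * cj u n with hcdef
    have hcE : c ∈ E := E.mul_mem hn (cj_mem hn u)
    have hcu : cj u c = c := by
      rw [hcdef, cj_mul, cj_cj, hu4, cj_one, hc _ (cj_mem hn u) _ hn]
    have hd : cj a c * cj u (cj a c) = cj a c * cj a⁻¹ c := by
      rw [cj_cj, hua', ← cj_cj, hcu]
    have hfd := hfix (cj a c) (cj_mem hcE a)
    rw [hd, cj_mul, cj_cj, cj_cj] at hfd
    have hsa' : s' * a = a ^ k * s' := by rw [← hs', cj]; group
    have hsi : s' * a⁻¹ = (a ^ k)⁻¹ * s' := by
      have : cj s' a⁻¹ = (a ^ k)⁻¹ := by rw [cj_inv, hs']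
      rw [← this, cj]; group
    rw [hsa', hsi, ← cj_cj, ← cj_cj, hfix n hn] at hfd
    -- both choices of `k` give the same equation
    have ha5 : a ^ 5 = 1 := ha ▸ pow_orderOf_eq_one a
    have hp3 : a ^ 3 = (a ^ 2)⁻¹ := eq_inv_of_mul_eq_one_left (by rw [← pow_add]; exact ha5)
    have hfd2 : cj (a * a) c * cj (a * a)⁻¹ c = cj a c * cj a⁻¹ c := by
      rcases hk with rfl | rfl
      · rwa [sq] at hfd
      · rw [hp3, inv_inv, sq] at hfd
        rwa [hc _ (cj_mem hcE _) _ (cj_mem hcE _)] at hfd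
    set g : G → G := fun x => cj a x * cj a⁻¹ x with hg
    have hgmem : ∀ x ∈ E, g x ∈ E := fun x hx => E.mul_mem (cj_mem hx _) (cj_mem hx _)
    have hginj : ∀ x ∈ E, g x = 1 → x = 1 := by
      intro x hx e
      have e' : cj (a * a) x * x = 1 := by
        have := congrArg (cj a) e
        rwa [hg, cj_mul, cj_cj, cj_cj, mul_inv_cancel, cj_one, cj_self_one] at this
      refine eq_one_of_commute_two h hE (orderOf_pow_two_pow h (Or.inr ha)) hx (cj_eq_self.mp ?_)
      rw [sq, eq_inv_of_mul_eq_one_left e', hinv x hx]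
    have hgg : g (g c) = g c := by
      have e1 : g (g c) = cj (a * a) c * c * (c * cj (a * a)⁻¹ c) := by
        simp only [hg, cj_mul, cj_cj, mul_inv_cancel, inv_mul_cancel, cj_one, mul_inv_rev]
      have e2 : cj (a * a) c * c * (c * cj (a * a)⁻¹ c) = cj (a * a) c * cj (a * a)⁻¹ c := by
        rw [← mul_assoc, mul_assoc (cj (a * a) c), hexp c hcE, mul_one]
      rw [e1, e2, hfd2]
    have hgc : g c = c := by
      have h1 : g (g c * c) = g (g c) * g c := by
        simp only [hg, cj_mul]
        have hcomm' := hc _ (cj_mem (E := E) hcE a) _ (cj_mem (E := E) (hgmem c hcE) a⁻¹)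
        simp only [hg, cj_mul] at hcomm'
        rw [mul_assoc (cj a (cj a c) * cj a (cj a⁻¹ c)), ← mul_assoc (cj a c), hcomm']
        simp [mul_assoc]
      rw [hgg, hexp _ (hgmem c hcE)] at h1
      have := hginj _ (E.mul_mem (hgmem c hcE) hcE) h1
      rw [eq_inv_of_mul_eq_one_left this, hinv c hcE]
    have h3 : cj (a * a) c * c = cj a c := by
      have := congrArg (cj a) hgc
      rwa [hg, cj_mul, cj_cj, cj_cj, mul_inv_cancel, cj_one] at this
    have h4 : cj (a * (a * a)) c = c := by
      have := congrArg (cj a) h3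
      rw [cj_mul, cj_cj, cj_cj] at this
      calc cj (a * (a * a)) c = cj (a * a) c * (cj a c)⁻¹ := by rw [← this]; group
        _ = cj (a * a) c * cj a c := by rw [hinv _ (cj_mem hcE a)]
        _ = cj (a * a) c * (cj (a * a) c * c) := by rw [h3]
        _ = c := by rw [← mul_assoc, hexp _ (cj_mem hcE _), one_mul]
    refine eq_one_of_commute_two h hE (a := a ^ 3) (hor 3 (Or.inr rfl)) hcE ?_
    have : a ^ 3 = a * (a * a) := by simp [pow_succ, mul_assoc]
    rw [this]; exact cj_eq_self.mp h4
  rw [eq_bot_iff]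
  intro n hn
  have huf : ∀ m ∈ E, cj u m = m := fun m hm => by
    rw [eq_inv_of_mul_eq_one_right (hC1 m hm), hinv m hm]
  have h1 := huf (cj a n) (cj_mem hn a)
  rw [cj_cj, hua', ← cj_cj, huf n hn] at h1
  have h2 : cj (a * a) n = n := by
    rw [← cj_cj, ← h1, cj_cj, mul_inv_cancel, cj_one]
  rw [Subgroup.mem_bot]
  exact eq_one_of_commute_two h hE (orderOf_pow_two_pow h (Or.inr ha)) hn
    (by rw [sq]; exact cj_eq_self.mp h2)

end Cfsg.Agent.Lib.SpecFive
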