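import Cfsg.Agent.Lib.SpecFive.Cases
import Cfsg.Agent.Lib.SpecFive.Arith.TI
import Cfsg.Agent.Lib.SpecFive.Arith.Unique
import Cfsg.Agent.Lib.SpecFive.Arith.Two

/-!
The orders of the core-free groups with element orders at most five.
-/

set_option autoImplicit false

open scoped Pointwise

namespace Cfsg.Agent.Lib.SpecFive

universe u

variable {G : Type u} [Group G] [Finite G]

omit [Finite G] in
theorem cast_index [Finite G] (H : Subgroup G) :
    (H.index : ℚ) = (Nat.card G : ℚ) / (Nat.card H : ℚ) := by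
  rw [eq_div_iff (Nat.cast_ne_zero.mpr (Nat.card_pos (α := H)).ne'), ← H.card_mul_index]
  push_cast
  ring

/-- The order of a group with element orders at most five. -/
theorem card_eq_prod (h : P5 G) [Fact (Nat.Prime 2)] [Fact (Nat.Prime 3)] [Fact (Nat.Prime 5)]
    (S : Sylow 2 G) (P : Sylow 3 G) (R : Sylow 5 G) :
    Nat.card G = Nat.card (S : Subgroup G) * Nat.card (P : Subgroup G) *
      Nat.card (R : Subgroup G) := by
  obtain ⟨j, hj⟩ := IsPGroup.iff_card.mp S.2
  obtain ⟨a, ha⟩ := IsPGroup.iff_card.mp P.2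
  obtain ⟨b, hb⟩ := IsPGroup.iff_card.mp R.2
  apply Nat.dvd_antisymm
  · rw [Nat.dvd_iff_prime_pow_dvd_dvd]
    intro p n hp hpn
    rcases Nat.eq_zero_or_pos n with rfl | hn0
    · simp
    rcases prime_cases h hp ((dvd_pow_self p hn0.ne').trans hpn) with rfl | rfl | rfl
    · exact (S.pow_dvd_card_of_pow_dvd_card hpn).trans (dvd_mul_of_dvd_left (dvd_mul_right _ _) _)
    · exact (P.pow_dvd_card_of_pow_dvd_card hpn).trans (dvd_mul_of_dvd_left (dvd_mul_left _ _) _)
    · exact (R.pow_dvd_card_of_pow_dvd_card hpn).trans (dvd_mul_left _ _)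
  · refine Nat.Coprime.mul_dvd_of_dvd_of_dvd ?_ (Nat.Coprime.mul_dvd_of_dvd_of_dvd ?_
      (Subgroup.card_subgroup_dvd_card _) (Subgroup.card_subgroup_dvd_card _))
      (Subgroup.card_subgroup_dvd_card _)
    · rw [hj, ha, hb]
      exact Nat.Coprime.mul_left (Nat.Coprime.pow _ _ (by norm_num))
        (Nat.Coprime.pow _ _ (by norm_num))
    · rw [hj, ha]
      exact Nat.Coprime.pow _ _ (by norm_num)

/-- The inductive step. -/
theorem order_step (h : P5 G) (hc : CoreFree G) (h1 : Nat.card G ≠ 1)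
    (IH : OrderBelow.{u} (Nat.card G)) : Nat.card G = 60 ∨ Nat.card G = 360 := by
  classical
  have : Fact (Nat.Prime 2) := ⟨Nat.prime_two⟩
  have : Fact (Nat.Prime 3) := ⟨Nat.prime_three⟩
  have : Fact (Nat.Prime 5) := ⟨Nat.prime_five⟩
  obtain ⟨d2, d3, d5⟩ := three_primes h hc h1
  obtain ⟨S⟩ : Nonempty (Sylow 2 G) := inferInstance
  obtain ⟨P⟩ : Nonempty (Sylow 3 G) := inferInstance
  obtain ⟨R⟩ : Nonempty (Sylow 5 G) := inferInstance
  obtain ⟨j, hj⟩ := IsPGroup.iff_card.mp S.2
  obtain ⟨a, ha⟩ := IsPGroup.iff_card.mp P.2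
  obtain ⟨b, hb⟩ := IsPGroup.iff_card.mp R.2
  have hexp : ∀ {p : ℕ} [Fact p.Prime] (T : Sylow p G) (n : ℕ),
      Nat.card (T : Subgroup G) = p ^ n → p ∣ Nat.card G → 1 ≤ n := by
    intro p _ T n hn hd
    by_contra hlt
    have h1 := T.ne_bot_of_dvd_card hd
    apply h1
    apply Subgroup.eq_bot_of_card_eq
    rw [hn, show n = 0 by omega, pow_zero]
  have hj1 := hexp S j hj d2
  have ha1 := hexp P a ha d3
  have hb1 := hexp R b hb d5
  obtain ⟨c3, hN3, hc3, dc3⟩ := exists_card_normalizer h (Or.inl rfl) P (P.ne_bot_of_dvd_card d3)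
  obtain ⟨c5, hN5, hc5, dc5⟩ := exists_card_normalizer h (Or.inr rfl) R (R.ne_bot_of_dvd_card d5)
  obtain ⟨e, hNS, he, hes⟩ := card_norm_sylow h S (S.ne_bot_of_dvd_card d2)
  rw [ha] at dc3
  rw [hb] at dc5
  rw [hj] at hes
  have hc3' : c3 = 1 ∨ c3 = 2 ∨ c3 = 4 ∨ c3 = 5 ∨ c3 = 8 := by omega
  have hc5' : c5 = 1 ∨ c5 = 2 ∨ c5 = 3 ∨ c5 = 4 ∨ c5 = 8 := by omega
  have hg := card_eq_prod h S P R
  rw [hj, ha, hb] at hg
  set g := Nat.card G with hgdef
  have hg0 : (g : ℚ) ≠ 0 := Nat.cast_ne_zero.mpr (Nat.card_pos (α := G)).ne'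
  set n24 := Nat.card {y : G // orderOf y = 2 ∨ orderOf y = 4} with hn24
  set u : ℚ := (1 / 2) ^ j with hu
  set w : ℚ := (1 / 3) ^ a with hw
  set z : ℚ := (1 / 5) ^ b with hz
  -- the class equation divided by the group order
  have heq : (n24 : ℚ) / g + (1 - w) / c3 + (1 - z) / c5 + u * w * z = 1 := by
    have hs := card_eq_sum h
    rw [card_orderOf_eq h (Or.inl rfl) P, card_orderOf_eq h (Or.inr rfl) R, ← hgdef, ← hn24, ha, hb]
      at hs
    have hs' : (g : ℚ) = 1 + n24 + (g / (3 ^ a * c3)) * ((3 : ℚ) ^ a - 1) +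
        (g / (5 ^ b * c5)) * ((5 : ℚ) ^ b - 1) := by
      have e3 := cast_index (Subgroup.normalizer ((P : Subgroup G) : Set G))
      have e5 := cast_index (Subgroup.normalizer ((R : Subgroup G) : Set G))
      rw [hN3, ha, ← hgdef] at e3
      rw [hN5, hb, ← hgdef] at e5
      push_cast at e3 e5
      rw [← e3, ← e5]
      have p3 : 1 ≤ 3 ^ a := Nat.one_le_pow _ _ (by norm_num)
      have p5 : 1 ≤ 5 ^ b := Nat.one_le_pow _ _ (by norm_num)
      have hsq := congrArg (Nat.cast : ℕ → ℚ) hs
      push_cast [Nat.cast_sub p3, Nat.cast_sub p5] at hsq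
      exact hsq
    have hginv : u * w * z = 1 / g := by
      rw [hu, hw, hz, hg]
      push_cast
      simp only [div_pow, one_pow]
      field_simp
    have hc30 : (c3 : ℚ) ≠ 0 := by
      have : c3 ≠ 0 := by omega
      exact_mod_cast this
    have hc50 : (c5 : ℚ) ≠ 0 := by
      have : c5 ≠ 0 := by omega
      exact_mod_cast this
    rw [hginv, hw, hz]
    simp only [div_pow, one_pow]
    generalize (g : ℚ) = G' at hs' hg0 ⊢
    field_simp at hs' ⊢
    linarith
  by_cases hTI : ∀ T : Sylow 2 G, T ≠ S → (S : Subgroup G) ⊓ (T : Subgroup G) = ⊥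
  · -- Sylow 2-subgroups meet trivially
    left
    have hn := count_ti h S hTI
    rw [← hn24] at hn
    have hf : (n24 : ℚ) / g = (1 - u) / e := by
      rw [hn, Nat.cast_mul, cast_index, hNS, hj, ← hgdef, Nat.cast_sub (Nat.one_le_pow _ _ (by norm_num))]
      have : e ≠ 0 := by omega
      have : (e : ℚ) ≠ 0 := by exact_mod_cast this
      rw [hu]
      push_cast
      simp only [div_pow, one_pow]
      field_simp
    rw [hf] at heq
    rw [hg]
    refine Arith.ti_case ha1 hb1 hc3' dc3 hc5' dc5 ?_ heq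
    rcases he with rfl | rfl | rfl
    · exact Or.inl ⟨rfl, hj1⟩
    · refine Or.inr (Or.inl ⟨rfl, ?_⟩)
      by_contra hlt
      rw [show j = 1 by omega] at hes
      norm_num at hes
    · refine Or.inr (Or.inr ⟨rfl, ?_⟩)
      by_contra hlt
      interval_cases j <;> norm_num at hes
  push Not at hTI
  obtain ⟨T, hTne, hTb⟩ := hTI
  obtain ⟨D, hD, -⟩ := exists_special hTne hTb
  obtain ⟨k, q, hd⟩ := special_data h hc IH hD
  by_cases huniq : ∀ D' E' : Subgroup G, Special S D' → Special S E' → D' = E'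
  · obtain ⟨hqN, hn⟩ := count_unique h hD hd huniq
    rw [← hn24] at hn
    -- the order of `D` is a power of four
    obtain ⟨m, hm⟩ : ∃ m, Nat.card D = 4 ^ m := by
      have hne : D ≠ (S : Subgroup G) := fun e' => by
        have hce := hd.card_eq
        rw [← e'] at hce
        have hpos : 0 < Nat.card D := Nat.card_pos
        rcases hd.shape with ⟨rfl, -⟩ | ⟨rfl, -⟩ | ⟨rfl, -⟩ <;> omega
      obtain ⟨x, hx, hxD, -, hxx⟩ := exists_normalizing h S D hD.le hne
      have hfix := hd.fixed x hx hxD hxx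
      obtain ⟨m, hm⟩ := IsPGroup.iff_card.mp
        (S.2.to_le ((inf_le_left (b := Subgroup.centralizer ({x} : Set G))).trans hD.le))
      exact ⟨m, by rw [← hfix, hm, ← pow_mul, mul_comm, pow_mul]; norm_num⟩
    have hm1 : 1 ≤ m ∧ (16 ≤ Nat.card D → 2 ≤ m) := by
      have h4 : 4 ≤ Nat.card D := by
        have := hd.shape
        omega
      constructor
      · rcases Nat.eq_zero_or_pos m with rfl | h0
        · rw [hm] at h4; norm_num at h4
        · exact h0
      · intro h16
        by_contra hlt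
        rw [hm] at h16
        interval_cases m <;> norm_num at h16
    have hidxN := cast_index (Subgroup.normalizer (D : Set G))
    have hidxS := cast_index (Subgroup.normalizer ((S : Subgroup G) : Set G))
    rcases (show k = 2 ∨ k = 4 by have := hd.shape; omega) with rfl | rfl
    · -- quotient of order `2q`
      exfalso
      have hq : q = 3 ∧ 1 ≤ m ∨ q = 5 ∧ 2 ≤ m := by
        rcases hd.shape with ⟨-, rfl, -⟩ | ⟨-, rfl, h16⟩ | ⟨h, -⟩
        · exact Or.inl ⟨rfl, hm1.1⟩
        · exact Or.inr ⟨rfl, hm1.2 h16⟩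
        · omega
      have hNc := hd.card_norm.1 rfl
      have hNS' : Nat.card ↥(Subgroup.normalizer ((S : Subgroup G) : Set G)) = 2 * Nat.card D := by
        rw [hNc, show Nat.card D * (2 * q) = q * (2 * Nat.card D) by ring] at hqN
        exact Nat.eq_of_mul_eq_mul_left (by omega) hqN
      have hf : (n24 : ℚ) / g = (1 - (1 / 4) ^ m) / (2 * q) + 1 / 2 := by
        rw [hn, hd.card_eq, show Nat.card D * 2 - Nat.card D = Nat.card D by omega]
        rw [Nat.cast_add, Nat.cast_mul, Nat.cast_mul, Nat.cast_sub (show 1 ≤ Nat.card D from Nat.card_pos),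
          hidxN, hidxS, hNS', hNc, ← hgdef, hm]
        have : q ≠ 0 := by omega
        have : (q : ℚ) ≠ 0 := by exact_mod_cast this
        push_cast
        simp only [div_pow, one_pow]
        field_simp
      have hu4 : u = (1 / 4 : ℚ) ^ m / 2 := by
        have e' : (2 : ℚ) ^ j = 4 ^ m * 2 := by
          exact_mod_cast (show (2 : ℕ) ^ j = 4 ^ m * 2 by rw [← hj, hd.card_eq, hm])
        rw [hu]
        simp only [div_pow, one_pow]
        rw [e']
        field_simp
      rw [hf, hu4] at heq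
      exact Arith.unique_small_case ha1 hb1 hc3' dc3 hc5' dc5 hq heq
    · -- quotient of order sixty
      exfalso
      have h16 : 16 ≤ Nat.card D ∧ q = 5 := by
        rcases hd.shape with ⟨h, -⟩ | ⟨h, -⟩ | ⟨-, h, h'⟩
        · omega
        · omega
        · exact ⟨h', h⟩
      have hNc := hd.card_norm.2 rfl
      have hNS' : Nat.card ↥(Subgroup.normalizer ((S : Subgroup G) : Set G)) = 12 * Nat.card D := by
        rw [hNc, h16.2, show Nat.card D * 60 = 5 * (12 * Nat.card D) by ring] at hqN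
        exact Nat.eq_of_mul_eq_mul_left (by omega) hqN
      have hf : (n24 : ℚ) / g = (1 - (1 / 4) ^ m) / 60 + 1 / 4 := by
        rw [hn, hd.card_eq, show Nat.card D * 4 - Nat.card D = 3 * Nat.card D by omega]
        rw [Nat.cast_add, Nat.cast_mul, Nat.cast_mul, Nat.cast_sub (show 1 ≤ Nat.card D from Nat.card_pos),
          hidxN, hidxS, hNS', hNc, ← hgdef, hm]
        push_cast
        simp only [div_pow, one_pow]
        field_simp
        ring
      have e' : 2 ^ j = 4 ^ m * 4 := by rw [← hj, hd.card_eq, hm]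
      have hu4 : u = (1 / 4 : ℚ) ^ m / 4 := by
        have e'' : (2 : ℚ) ^ j = 4 ^ m * 4 := by exact_mod_cast e'
        rw [hu]
        simp only [div_pow, one_pow]
        rw [e'']
        field_simp
      rw [hf, hu4] at heq
      have h15 := Arith.unique_big_case ha1 hb1 hc3' dc3 hc5' dc5 (hm1.2 h16.1) heq
      have hlt := hd.card_norm_lt
      rw [hNc, hm, ← hgdef, hg, mul_assoc, h15, e'] at hlt
      omega
  · right
    push Not at huniq
    obtain ⟨D', E', hD', hE', hne⟩ := huniq
    obtain ⟨m, hsm, hn⟩ := count_two h hc IH hD' hE' hne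
    rw [← hn24] at hn
    have hf : (n24 : ℚ) / g = 1 / ((2 ^ j : ℕ) : ℚ) + (m : ℚ) / (((2 ^ j : ℕ) : ℚ) * e) := by
      rw [hn, Nat.cast_add, Nat.cast_mul, cast_index, cast_index, hNS, hj, ← hgdef]
      have : e ≠ 0 := by omega
      have : (e : ℚ) ≠ 0 := by exact_mod_cast this
      push_cast
      field_simp
    have hu2 : u = 1 / ((2 ^ j : ℕ) : ℚ) := by
      rw [hu]; push_cast; simp only [div_pow, one_pow]
    rw [hf, hu2] at heq
    rw [hg]
    rw [hj] at hsm
    generalize 2 ^ j = s at hsm heq ⊢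
    exact Arith.two_case ha1 hb1 hc3' dc3 hc5' dc5 hsm he heq

/-- A core-free group with element orders at most five has order 60 or 360. -/
theorem orderBelow : ∀ N : ℕ, OrderBelow.{u} N := by
  intro N
  induction N with
  | zero => intro Q _ _ hQ; exact absurd hQ (Nat.not_lt_zero _)
  | succ N ih =>
    intro Q _ _ hQ h hc h1
    exact order_step h hc h1 fun R _ _ hR => ih R (lt_of_lt_of_le hR (Nat.lt_succ_iff.mp hQ))

/-- A nontrivial normal subgroup of a core-free group is core-free. -/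
theorem coreFree_of_normal (hc : CoreFree G) (M : Subgroup G) [hM : M.Normal] : CoreFree M := by
  intro p L hp hL hLp
  have := Fact.mk hp
  obtain ⟨P⟩ : Nonempty (Sylow p M) := inferInstance
  have hPp : IsPGroup p ((P : Subgroup M).map M.subtype) := P.2.map _
  let K : Subgroup G := Subgroup.normalClosure ((L.map M.subtype : Subgroup G) : Set G)
  have hKP : K ≤ (P : Subgroup M).map M.subtype := by
    refine (Subgroup.closure_le _).mpr fun x hx => ?_
    obtain ⟨y, ⟨l, hl, rfl⟩, hyx⟩ := Group.mem_conjugatesOfSet_iff.mp hx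
    obtain ⟨g, rfl⟩ := isConj_iff.mp hyx
    let f : M ≃* M := MulAut.conjNormal g
    have hn : (L.map f.toMonoidHom).Normal := hL.map f.toMonoidHom f.surjective
    have h1 := (hLp.map f.toMonoidHom).le_sylow_of_normal P (Subgroup.mem_map_of_mem f.toMonoidHom hl)
    exact ⟨_, h1, rfl⟩
  have hK := hc p K hp inferInstance (hPp.to_le hKP)
  have hLK : L.map M.subtype ≤ K := Subgroup.subset_normalClosure
  rw [hK, le_bot_iff, Subgroup.map_eq_bot_iff_of_injective _ M.subtype_injective] at hLK
  exact hLK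

/-- Such a group is simple. -/
theorem isSimpleGroup_of_coreFree (h : P5 G) (hc : CoreFree G)
    (hg : Nat.card G = 60 ∨ Nat.card G = 360) : IsSimpleGroup G := by
  classical
  have : Fact (Nat.Prime 2) := ⟨Nat.prime_two⟩
  have hnt : Nontrivial G := Finite.one_lt_card_iff_nontrivial.mp (by omega)
  have horder : ∀ M : Subgroup G, M.Normal → M ≠ ⊥ → Nat.card M = 60 ∨ Nat.card M = 360 := by
    intro M hM hne
    refine orderBelow (Nat.card G + 1) M ?_ (h.subgroup M) (coreFree_of_normal hc M) ?_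
    · exact Nat.lt_succ_iff.mpr (Subgroup.card_le_card_group M)
    · exact fun e => hne (Subgroup.eq_bot_of_card_eq _ e)
  refine IsSimpleGroup.mk fun M hM => ?_
  by_contra hcon
  rw [not_or] at hcon
  obtain ⟨hne, hnt'⟩ := hcon
  have hdvd := Subgroup.card_subgroup_dvd_card M
  have hneq : Nat.card M ≠ Nat.card G := fun e => hnt' (Subgroup.eq_top_of_card_eq M e)
  have hle := Subgroup.card_le_card_group M
  have hM60 : Nat.card M = 60 ∧ Nat.card G = 360 := by
    rcases horder M hM hne with e | e <;> omega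
  obtain ⟨hn5, h4, -⟩ := sixty (h.subgroup M) (coreFree_of_normal hc M) hM60.1
  let φ : G →* Equiv.Perm (Sylow 2 M) :=
    (MulAction.toPermHom (MulAut M) (Sylow 2 M)).comp (MulAut.conjNormal (H := M))
  have hK : φ.ker ≠ ⊥ := by
    intro e
    have h1 := Nat.card_le_card_of_injective φ ((MonoidHom.ker_eq_bot_iff φ).mp e)
    rw [Nat.card_perm, hn5, hM60.2] at h1
    norm_num [Nat.factorial] at h1
  have hMK : ¬ M ≤ φ.ker := by
    intro hle'
    obtain ⟨T⟩ : Nonempty (Sylow 2 M) := inferInstance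
    have hT : (T : Subgroup M).Normal := by
      constructor
      intro x hx m
      have e : φ m = 1 := hle' m.2
      have e' : (MulAut.conjNormal (m : G) : MulAut M) • T = T := Equiv.ext_iff.mp e T
      rw [← e']
      refine ⟨x, hx, Subtype.ext ?_⟩
      show ((MulAut.conjNormal (m : G) x : M) : G) = _
      rw [MulAut.conjNormal_apply]
      rfl
    have h2 := coreFree_of_normal hc M 2 T Nat.prime_two hT T.2
    have := h4 T
    rw [h2, Subgroup.card_bot] at this
    omega
  have hbot : φ.ker ⊓ M = ⊥ := by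
    by_contra hne'
    have h1 : φ.ker ⊓ M ≤ M := inf_le_right
    have h2 := Subgroup.card_le_of_le h1
    have h3 : Nat.card M ≤ Nat.card ↥(φ.ker ⊓ M) := by
      rcases horder _ inferInstance hne' with e | e <;> omega
    exact hMK ((Subgroup.eq_of_le_of_card_ge h1 h3).ge.trans inf_le_left)
  obtain ⟨k, hk, hk1⟩ := exists_mem_ne_one hK
  have hcomm : ∀ m : M, Commute k (m : G) := fun m =>
    Subgroup.commute_of_normal_of_disjoint φ.ker M inferInstance hM (disjoint_iff.mpr hbot) k m hk m.2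
  obtain ⟨p, hp, hpd⟩ := Nat.exists_prime_and_dvd
    (show orderOf k ≠ 1 from fun e => hk1 (orderOf_eq_one_iff.mp e))
  obtain ⟨r, hr, hrne, hrd⟩ : ∃ r, r.Prime ∧ p ≠ r ∧ r ∣ Nat.card M := by
    rcases eq_or_ne p 2 with rfl | hp2
    · exact ⟨3, Nat.prime_three, by norm_num, by rw [hM60.1]; norm_num⟩
    · exact ⟨2, Nat.prime_two, hp2, by rw [hM60.1]; norm_num⟩
  have := Fact.mk hr
  obtain ⟨m, hm⟩ := exists_prime_orderOf_dvd_card' (G := M) r hrd
  exact false_of_commute h hp hr hrne hpd (by rw [Subgroup.orderOf_coe, hm]) (hcomm m)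

/-- Orders divisible by the three primes and a trivial 2-core give a core-free group. -/
theorem coreFree_of_two (h : P5 G) (h2 : 2 ∣ Nat.card G) (h3 : 3 ∣ Nat.card G) (h5 : 5 ∣ Nat.card G)
    (hO : ∀ M : Subgroup G, M.Normal → IsPGroup 2 M → M = ⊥) : CoreFree G := by
  intro p M hp hM hMp
  by_contra hne
  have := Fact.mk hp
  have hpd : p ∣ Nat.card G :=
    ((hMp.card_eq_or_dvd).resolve_left fun e => hne (Subgroup.eq_bot_of_card_eq _ e)).trans
      (Subgroup.card_subgroup_dvd_card M)
  rcases prime_cases h hp hpd with rfl | hp35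
  · exact hne (hO M hM hMp)
  obtain ⟨P, -, hidx, -⟩ := odd_core h hp35 M hMp hne
  obtain ⟨n, hn⟩ := IsPGroup.iff_card.mp P.2
  have key : ∀ r : ℕ, r.Prime → r ≠ p → r ∣ Nat.card G → r ∣ (P : Subgroup G).index := by
    intro r hr hrp hrd
    rw [← (P : Subgroup G).card_mul_index, hn] at hrd
    exact ((Nat.coprime_primes hr hp).mpr hrp).pow_right n |>.dvd_of_dvd_mul_left hrd
  rcases hp35 with rfl | rfl
  · have e2 := key 2 Nat.prime_two (by norm_num) h2
    have e5 := key 5 Nat.prime_five (by norm_num) h5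
    omega
  · have e2 := key 2 Nat.prime_two (by norm_num) h2
    have e3 := key 3 Nat.prime_three (by norm_num) h3
    omega

end Cfsg.Agent.Lib.SpecFive
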