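import Cfsg.Agent.Lib.SpecFive.Basic

/-!
Elements of order at most five: a nontrivial normal `p`-subgroup for `p = 3, 5` forces a normal
Sylow `p`-subgroup with a small complement acting freely; Sylow `p`-subgroups are TI.
-/

set_option autoImplicit false

open scoped Pointwise

namespace Cfsg.Agent.Lib.SpecFive

theorem card_dvd_of_free {K X : Type*} [Group K] [MulAction K X] [Finite K] [Finite X]
    (hfree : ∀ (k : K) (x : X), k • x = x → k = 1) : Nat.card K ∣ Nat.card X := by
  classical
  have := Fintype.ofFinite X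
  rw [Nat.card_congr (MulAction.selfEquivSigmaOrbitsQuotientStabilizer K X), Nat.card_sigma]
  refine Finset.dvd_sum fun w _ => ?_
  have : MulAction.stabilizer K w.out = ⊥ := by
    rw [eq_bot_iff]; exact fun k hk => Subgroup.mem_bot.mpr (hfree k _ hk)
  rw [← Subgroup.index_eq_card, this, Subgroup.index_bot]

variable {G : Type*} [Group G] [Finite G]

theorem le_normal_sylow {p : ℕ} {H : Subgroup G} (hH : IsPGroup p H) (R : Sylow p G)
    (hR : (R : Subgroup G).Normal) : H ≤ (R : Subgroup G) :=
  le_sup_left.trans (R.3 (hH.to_sup_of_normal_right R.2) le_sup_right).le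

/-- Structure of a group with a nontrivial normal `p`-subgroup, `p ∈ {3, 5}`. -/
theorem odd_core (h : P5 G) {p : ℕ} [hp : Fact p.Prime] (hp35 : p = 3 ∨ p = 5)
    (M : Subgroup G) [M.Normal] (hM : IsPGroup p M) (hne : M ≠ ⊥) :
    ∃ P : Sylow p G, (P : Subgroup G).Normal ∧
      ((P : Subgroup G).index = 1 ∨ (P : Subgroup G).index = 2 ∨ (P : Subgroup G).index = 4 ∨
        (P : Subgroup G).index = 8 ∨ (P : Subgroup G).index = 8 - p) ∧
      (P : Subgroup G).index ∣ Nat.card (P : Subgroup G) - 1 := by
  classical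
  have h2 : Fact (Nat.Prime 2) := ⟨Nat.prime_two⟩
  let A : Subgroup G := (Subgroup.center M).map M.subtype
  have hAn : A.Normal := inferInstanceAs ((Subgroup.center M).map M.subtype).Normal
  have hAM : A ≤ M := Subgroup.map_subtype_le _
  have hAc : ∀ a ∈ A, ∀ b ∈ A, a * b = b * a := by
    rintro _ ⟨a, ha, rfl⟩ b hb
    exact congrArg Subtype.val (Subgroup.mem_center_iff.mp ha ⟨b, hAM hb⟩).symm
  obtain ⟨a0, ha0, ha01⟩ : ∃ a ∈ A, a ≠ 1 := by
    apply exists_mem_ne_one
    have : Nontrivial M := (Subgroup.nontrivial_iff_ne_bot M).mpr hne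
    exact fun e => (Subgroup.nontrivial_iff_ne_bot _).mp hM.center_nontrivial
      ((Subgroup.map_eq_bot_iff_of_injective _ M.subtype_injective).mp e)
  set C : Subgroup G := Subgroup.centralizer (A : Set G) with hC
  have hCn : C.Normal := by rw [hC]; infer_instance
  have hCp : IsPGroup p C := isPGroup_of_centralizes h (prime_dvd_orderOf hM (hAM ha0) ha01)
    fun x hx => Subgroup.mem_centralizer_iff.mp hx a0 ha0
  -- existence of the normal Sylow subgroup with the stated index
  suffices ∃ P : Sylow p G, (P : Subgroup G).Normal ∧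
      ((P : Subgroup G).index = 1 ∨ (P : Subgroup G).index = 2 ∨ (P : Subgroup G).index = 4 ∨
        (P : Subgroup G).index = 8 ∨ (P : Subgroup G).index = 8 - p) by
    obtain ⟨P, hPn, hidx⟩ := this
    refine ⟨P, hPn, hidx, ?_⟩
    obtain ⟨K, hK⟩ := Subgroup.exists_right_complement'_of_coprime (N := (P : Subgroup G))
      P.card_coprime_index
    rw [hK.symm.index_eq_card]
    let X := {x : (P : Subgroup G) // x ≠ 1}
    have hX : Nat.card X = Nat.card (P : Subgroup G) - 1 := by
      have := Fintype.ofFinite (P : Subgroup G)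
      rw [Nat.card_eq_fintype_card, Nat.card_eq_fintype_card, Fintype.card_subtype_compl,
        Fintype.card_subtype_eq]
    rw [← hX]
    let _ : MulAction K X :=
      { smul := fun k x => ⟨⟨(k : G) * x.1 * (k : G)⁻¹, hPn.conj_mem _ x.1.2 _⟩, fun e => x.2
          (Subtype.ext (conj_eq_one_iff.mp (congrArg Subtype.val e)))⟩
        one_smul := fun x => Subtype.ext (Subtype.ext (by
          show ((1 : K) : G) * x.1 * ((1 : K) : G)⁻¹ = x.1
          simp))
        mul_smul := fun k l x => Subtype.ext (Subtype.ext (by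
          show ((k * l : K) : G) * x.1 * ((k * l : K) : G)⁻¹ =
            (k : G) * ((l : G) * x.1 * (l : G)⁻¹) * (k : G)⁻¹
          simp [mul_assoc])) }
    refine card_dvd_of_free fun k x hx => ?_
    by_contra hk
    have e : (k : G) * x.1 * (k : G)⁻¹ = x.1 := congrArg (fun y : X => ((y.1 : _) : G)) hx
    have hx1 : (x.1 : G) ≠ 1 := fun e => x.2 (Subtype.ext e)
    have hCx : IsPGroup p (Subgroup.zpowers (k : G)) :=
      isPGroup_of_centralizes h (prime_dvd_orderOf P.2 x.1.2 hx1) fun y hy => by
        obtain ⟨j, rfl⟩ := Subgroup.mem_zpowers_iff.mp hy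
        exact (show Commute (x.1 : G) k from (mul_inv_eq_iff_eq_mul.mp e).symm).zpow_right j
    have h1 := prime_dvd_orderOf hCx (Subgroup.mem_zpowers (k : G)) (fun e => hk (Subtype.ext e))
    have h2' : orderOf (k : G) ∣ (P : Subgroup G).index := by
      rw [hK.symm.index_eq_card]; exact Subgroup.orderOf_dvd_natCard K k.2
    exact P.not_dvd_index (h1.trans h2')
  have hCP : ∀ P : Sylow p G, C ≤ (P : Subgroup G) := fun P => hCp.le_sylow_of_normal P
  by_cases hev : 2 ∣ Nat.card G
  · -- involutions invert `A`, so every element of odd order centralises it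
    have hinv : ∀ t : G, orderOf t = 2 → ∀ a ∈ A, t * a * t⁻¹ = a⁻¹ := by
      intro t ht a ha
      set b := t * a * t⁻¹ with hb
      have hbA : b ∈ A := hAn.conj_mem a ha t
      have ht2 : t * t = 1 := by
        have := pow_orderOf_eq_one t; rwa [ht, sq] at this
      have hti : t⁻¹ = t := inv_eq_of_mul_eq_one_left ht2
      have hfix : Commute t (a * b) := by
        have h1 : t * (a * b) * t⁻¹ = b * a := by
          rw [hb, hti]
          calc t * (a * (t * a * t)) * t = (t * a * t) * a * (t * t) := by group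
            _ = t * a * t * a := by rw [ht2, mul_one]
        rw [← hAc a ha b hbA] at h1
        exact mul_inv_eq_iff_eq_mul.mp h1
      by_contra hne'
      have hab : a * b ≠ 1 := fun e => hne' (eq_inv_of_mul_eq_one_right e)
      exact false_of_commute h Nat.prime_two hp.out (by omega) ht.symm.dvd
        (prime_dvd_orderOf hM (hAM (A.mul_mem ha hbA)) hab) hfix
    obtain ⟨t, ht⟩ := exists_prime_orderOf_dvd_card' (G := G) 2 hev
    have hpair : ∀ s u : G, orderOf s = 2 → orderOf u = 2 → s * u ∈ C := by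
      intro s u hs hu
      rw [hC, Subgroup.mem_centralizer_iff]
      intro a ha
      have e : s * u * a * (s * u)⁻¹ = a := by
        calc s * u * a * (s * u)⁻¹ = s * (u * a * u⁻¹) * s⁻¹ := by group
          _ = s * a⁻¹ * s⁻¹ := by rw [hinv u hu a ha]
          _ = a := by rw [hinv s hs _ (A.inv_mem ha), inv_inv]
      exact (mul_inv_eq_iff_eq_mul.mp e).symm
    have hodd : ∀ y : G, (orderOf y = 3 ∨ orderOf y = 5) → y ∈ C := by
      intro y hy
      have hyo : (orderOf y).Prime := by rcases hy with e | e <;> rw [e] <;> norm_num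
      have hy2 : orderOf y ≠ 2 := by omega
      by_contra hyC
      let π := QuotientGroup.mk' C
      have hoy : orderOf (π y) = orderOf y :=
        (hyo.eq_one_or_self_of_dvd _ (orderOf_map_dvd π y)).resolve_left fun e =>
          hyC ((QuotientGroup.eq_one_iff y).mp (orderOf_eq_one_iff.mp e))
      have hot : orderOf (π t) = 2 := by
        refine (Nat.prime_two.eq_one_or_self_of_dvd _ (ht ▸ orderOf_map_dvd π t)).resolve_left
          fun e => ?_
        have htC : t ∈ C := (QuotientGroup.eq_one_iff t).mp (orderOf_eq_one_iff.mp e)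
        have h3 := prime_dvd_orderOf hCp htC (fun e1 => by rw [e1, orderOf_one] at ht; omega)
        rw [ht] at h3
        have := Nat.le_of_dvd (by norm_num) h3
        omega
      have hcom : Commute (π y) (π t) := by
        have hc' := hpair (y * t * y⁻¹) t (by rw [← MulAut.conj_apply, MulEquiv.orderOf_eq, ht]) ht
        have e1 : π (y * t * y⁻¹ * t) = 1 := (QuotientGroup.eq_one_iff _).mpr hc'
        have e2 : π t * π t = 1 := by rw [← sq, ← hot, pow_orderOf_eq_one]
        simp only [map_mul, map_inv] at e1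
        have e3 : π y * π t * (π y)⁻¹ = π t := by
          rw [eq_inv_of_mul_eq_one_left e1]; exact inv_eq_of_mul_eq_one_left e2
        exact mul_inv_eq_iff_eq_mul.mp e3
      exact false_of_commute (h.quotient C) hyo Nat.prime_two hy2 hoy.symm.dvd hot.symm.dvd hcom
    obtain ⟨P⟩ : Nonempty (Sylow p G) := inferInstance
    have hPC : (P : Subgroup G) ≤ C := fun x hx => by
      by_cases hx1 : x = 1
      · rw [hx1]; exact one_mem C
      · have := orderOf_eq_of_odd h hp35 (prime_dvd_orderOf P.2 hx hx1)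
        exact hodd x (by rcases hp35 with rfl | rfl <;> simp [this])
    have hPeq : (P : Subgroup G) = C := le_antisymm hPC (hCP P)
    have hPn : (P : Subgroup G).Normal := hPeq ▸ hCn
    refine ⟨P, hPn, ?_⟩
    obtain ⟨K, hK⟩ := Subgroup.exists_right_complement'_of_coprime (N := (P : Subgroup G))
      P.card_coprime_index
    rw [hK.symm.index_eq_card]
    have hdisj : ∀ x ∈ K, x ∈ C → x = 1 := fun x hx hxC =>
      Subgroup.disjoint_def.mp hK.disjoint (hPeq.symm ▸ hxC) hx
    have hK2 : IsPGroup 2 K := by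
      rw [IsPGroup.iff_orderOf]
      intro x
      rcases order_cases (h.subgroup K) x with e | e | e | e | e
      · exact ⟨0, e⟩
      · exact ⟨1, e⟩
      · exfalso
        rw [← Subgroup.orderOf_coe] at e
        have := hdisj x x.2 (hodd x (Or.inl e))
        rw [this, orderOf_one] at e; omega
      · exact ⟨2, e⟩
      · exfalso
        rw [← Subgroup.orderOf_coe] at e
        have := hdisj x x.2 (hodd x (Or.inr e))
        rw [this, orderOf_one] at e; omega
    have hu : ∀ a b : K, orderOf a = 2 → orderOf b = 2 → a = b := by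
      intro a b ha hb
      have h1 := hdisj _ (K.mul_mem a.2 b.2)
        (hpair a b (by rw [Subgroup.orderOf_coe, ha]) (by rw [Subgroup.orderOf_coe, hb]))
      have h2 : (b : G) * b = 1 := by
        rw [← sq, ← show orderOf (b : G) = 2 by rw [Subgroup.orderOf_coe, hb], pow_orderOf_eq_one]
      exact Subtype.ext ((eq_inv_of_mul_eq_one_left h1).trans (inv_eq_of_mul_eq_one_left h2))
    rcases card_of_unique_involution hK2 (h.subgroup K) hu with e | e | e | e <;> simp [e]
  · -- odd order
    obtain ⟨q, hq, hq35, hpq⟩ : ∃ q, q.Prime ∧ q = 8 - p ∧ p ≠ q := by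
      rcases hp35 with rfl | rfl
      · exact ⟨5, by norm_num, rfl, by norm_num⟩
      · exact ⟨3, by norm_num, rfl, by norm_num⟩
    have := Fact.mk hq
    obtain ⟨P⟩ : Nonempty (Sylow p G) := inferInstance
    obtain ⟨Q⟩ : Nonempty (Sylow q G) := inferInstance
    have hAne : A ≠ ⊥ := fun e => ha01 (Subgroup.mem_bot.mp (e ▸ ha0))
    have hQ : Nat.card (Q : Subgroup G) ≤ q :=
      card_le_prime h hpq.symm (by rcases hp35 with rfl | rfl <;> simp [hq35]) Q A Q.2
        (hM.to_le hAM) hAne (by rw [Subgroup.normalizer_eq_top_iff.mpr hAn]; exact le_top)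
    obtain ⟨k, hk⟩ : ∃ k, (P : Subgroup G).index = q ^ k := by
      refine ⟨_, Nat.eq_prime_pow_of_unique_prime_dvd Subgroup.index_ne_zero_of_finite
        fun {r} hr hrd => ?_⟩
      rcases prime_cases h hr (hrd.trans (Subgroup.index_dvd_card _)) with rfl | rfl | rfl
      · exact absurd (hrd.trans (Subgroup.index_dvd_card _)) hev
      · rcases hp35 with rfl | rfl
        · exact absurd hrd P.not_dvd_index
        · exact hq35.symm
      · rcases hp35 with rfl | rfl
        · exact hq35.symm
        · exact absurd hrd P.not_dvd_index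
    have hk1 : k ≤ 1 := by
      have h1 := Nat.le_of_dvd Nat.card_pos
        (Q.pow_dvd_card_of_pow_dvd_card (hk ▸ Subgroup.index_dvd_card (P : Subgroup G)))
      by_contra hlt
      have : q ^ 2 ≤ q ^ k := Nat.pow_le_pow_right hq.pos (by omega)
      have : q < q ^ 2 := by nlinarith [hq.two_le]
      omega
    refine ⟨P, ?_, ?_⟩
    · have hd := P.card_dvd_index
      rw [hk] at hd
      have hm := card_sylow_modEq_one p G
      have hone : Nat.card (Sylow p G) = 1 := by
        have : Nat.card (Sylow p G) ∣ q := hd.trans (by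
          interval_cases k <;> simp)
        rcases hq.eq_one_or_self_of_dvd _ this with e | e
        · exact e
        · rw [e, Nat.ModEq] at hm
          rcases hp35 with rfl | rfl <;> subst hq35 <;> norm_num at hm
      have := (Nat.card_eq_one_iff_unique.mp hone).1
      exact Sylow.normal_of_subsingleton P
    · interval_cases k
      · simp [hk]
      · simp [hk, hq35]

/-- Distinct Sylow `p`-subgroups (`p = 3, 5`) meet trivially. -/
theorem ti (h : P5 G) {p : ℕ} [hp : Fact p.Prime] (hp35 : p = 3 ∨ p = 5) (P Q : Sylow p G)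
    (hne : P ≠ Q) : (P : Subgroup G) ⊓ (Q : Subgroup G) = ⊥ := by
  classical
  by_contra hD
  have := Fintype.ofFinite (Sylow p G)
  obtain ⟨Q', hQ'mem, hQ'max⟩ := Finset.exists_max_image
    (Finset.univ.filter fun Q' : Sylow p G =>
      Q' ≠ P ∧ (P : Subgroup G) ⊓ (Q : Subgroup G) ≤ (P : Subgroup G) ⊓ (Q' : Subgroup G))
    (fun Q' => Nat.card ↥((P : Subgroup G) ⊓ (Q' : Subgroup G)))
    ⟨Q, by simp [hne.symm]⟩
  obtain ⟨hQ'ne, hle⟩ := (Finset.mem_filter.mp hQ'mem).2
  have hmax : ∀ R : Sylow p G, R ≠ P →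
      (P : Subgroup G) ⊓ (Q : Subgroup G) ≤ (P : Subgroup G) ⊓ (R : Subgroup G) →
      Nat.card ↥((P : Subgroup G) ⊓ (R : Subgroup G)) ≤
        Nat.card ↥((P : Subgroup G) ⊓ (Q' : Subgroup G)) :=
    fun R hR hR' => hQ'max R (Finset.mem_filter.mpr ⟨Finset.mem_univ _, hR, hR'⟩)
  set D := (P : Subgroup G) ⊓ (Q' : Subgroup G) with hDdef
  have hDne : D ≠ ⊥ := fun e => hD (le_bot_iff.mp (e ▸ hle))
  set N := Subgroup.normalizer (D : Set G) with hN
  have hDN : D ≤ N := Subgroup.le_normalizer
  have : (D.subgroupOf N).Normal := Subgroup.normal_subgroupOf_of_le_normalizer le_rfl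
  obtain ⟨R, hRn, -⟩ := odd_core (h.subgroup N) hp35 (D.subgroupOf N)
    (IsPGroup.comap_subtype (P.2.to_le inf_le_left))
    (fun e => hDne (le_bot_iff.mp (by
      rw [Subgroup.subgroupOf_eq_bot] at e
      exact fun x hx => e.le_bot ⟨hx, hDN hx⟩)))
  have hin : ∀ S : Sylow p G, (S : Subgroup G) ⊓ N ≤ (R : Subgroup N).map N.subtype := by
    intro S x hx
    have hSp : IsPGroup p (((S : Subgroup G) ⊓ N).subgroupOf N) :=
      IsPGroup.comap_subtype (S.2.to_le inf_le_left)
    have : ((S : Subgroup G) ⊓ N).subgroupOf N ≤ R := le_normal_sylow hSp R hRn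
    exact ⟨⟨x, hx.2⟩, this (Subgroup.mem_subgroupOf.mpr hx), rfl⟩
  obtain ⟨R', hR'⟩ := (R.2.map N.subtype).exists_le_sylow
  have hlt : ∀ S : Sylow p G, D < (S : Subgroup G) → D < (S : Subgroup G) ⊓ N := by
    intro S hS
    refine lt_of_le_not_ge (le_inf hS.le hDN) fun hge => ?_
    have : Group.IsNilpotent (S : Subgroup G) := S.2.isNilpotent
    have hlt' : D.subgroupOf (S : Subgroup G) < ⊤ := by
      rw [lt_top_iff_ne_top]
      intro e
      exact absurd (Subgroup.subgroupOf_eq_top.mp e) (not_le_of_gt hS)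
    obtain ⟨x, hxN, hxD⟩ := SetLike.exists_of_lt (Group.normalizerCondition_of_isNilpotent _ hlt')
    refine hxD (Subgroup.mem_subgroupOf.mpr (hge ⟨x.2, ?_⟩))
    refine Subgroup.mem_normalizer_iff.mpr fun y => ?_
    have hx := Subgroup.mem_normalizer_iff.mp hxN
    constructor
    · intro hy
      exact Subgroup.mem_subgroupOf.mp ((hx ⟨y, hS.le hy⟩).mp (Subgroup.mem_subgroupOf.mpr hy))
    · intro hy
      have hyS : y ∈ (S : Subgroup G) := by
        have := (S : Subgroup G).mul_mem ((S : Subgroup G).mul_mem ((S : Subgroup G).inv_mem x.2)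
          (hS.le hy)) x.2
        simpa [mul_assoc] using this
      exact Subgroup.mem_subgroupOf.mp ((hx ⟨y, hyS⟩).mpr (Subgroup.mem_subgroupOf.mpr hy))
  have hPlt : D < (P : Subgroup G) := lt_of_le_of_ne inf_le_left fun e =>
    hQ'ne (Sylow.ext (P.3 Q'.2 (e ▸ inf_le_right)))
  have hQlt : D < (Q' : Subgroup G) := lt_of_le_of_ne inf_le_right fun e =>
    hQ'ne (Sylow.ext (Q'.3 P.2 (e ▸ inf_le_left)).symm)
  have hR'P : R' = P := by
    by_contra hne'
    have h1 := (hlt P hPlt).trans_le (le_inf inf_le_left ((hin P).trans hR'))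
    have h2 := hmax R' hne' (hle.trans h1.le)
    exact absurd (Subgroup.eq_of_le_of_card_ge h1.le h2) h1.ne
  have h1 := (hlt Q' hQlt).trans_le (le_inf ((hin Q').trans (hR'P ▸ hR')) inf_le_left)
  exact absurd le_rfl (not_le_of_gt h1)

/-- The normaliser of a Sylow `p`-subgroup, `p = 3, 5`. -/
theorem exists_card_normalizer (h : P5 G) {p : ℕ} [hp : Fact p.Prime] (hp35 : p = 3 ∨ p = 5)
    (P : Sylow p G) (hP : (P : Subgroup G) ≠ ⊥) :
    ∃ c, Nat.card (Subgroup.normalizer ((P : Subgroup G) : Set G)) = Nat.card (P : Subgroup G) * c ∧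
      (c = 1 ∨ c = 2 ∨ c = 4 ∨ c = 8 ∨ c = 8 - p) ∧ c ∣ Nat.card (P : Subgroup G) - 1 := by
  set N := Subgroup.normalizer ((P : Subgroup G) : Set G)
  have : ((P : Subgroup G).subgroupOf N).Normal :=
    Subgroup.normal_subgroupOf_of_le_normalizer le_rfl
  obtain ⟨R, hRn, hidx, hdvd⟩ := odd_core (h.subgroup N) hp35 ((P : Subgroup G).subgroupOf N)
    (IsPGroup.comap_subtype P.2)
    (fun e => hP (le_bot_iff.mp (by
      rw [Subgroup.subgroupOf_eq_bot] at e
      exact fun x hx => e.le_bot ⟨hx, Subgroup.le_normalizer hx⟩)))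
  have hR : (R : Subgroup N) = (P : Subgroup G).subgroupOf N := by
    refine le_antisymm ?_ (le_normal_sylow (IsPGroup.comap_subtype P.2) R hRn)
    have hm : IsPGroup p ((R : Subgroup N).map N.subtype) := R.2.map _
    have hle : (P : Subgroup G) ≤ (R : Subgroup N).map N.subtype := fun x hx =>
      ⟨⟨x, Subgroup.le_normalizer hx⟩,
        le_normal_sylow (IsPGroup.comap_subtype P.2) R hRn (Subgroup.mem_subgroupOf.mpr hx),
        rfl⟩
    intro x hx
    exact Subgroup.mem_subgroupOf.mpr (by rw [← P.3 hm hle]; exact ⟨x, hx, rfl⟩)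
  have hc : Nat.card (R : Subgroup N) = Nat.card (P : Subgroup G) := by
    rw [hR]; exact Nat.card_congr (Subgroup.subgroupOfEquivOfLe Subgroup.le_normalizer).toEquiv
  refine ⟨_, ?_, hidx, hc ▸ hdvd⟩
  rw [← hc, Subgroup.card_mul_index]

end Cfsg.Agent.Lib.SpecFive
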