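import Cfsg.Agent.Lib.SpecFive.Count
import Cfsg.Agent.Lib.Burnside.Paqb

/-!
The possible quotients by the 2-core of a group with elements of order at most five.
-/

set_option autoImplicit false

open scoped commutatorElement

namespace Cfsg.Agent.Lib.SpecFive

universe u

/-- No nontrivial normal subgroup of prime power order. -/
def CoreFree (G : Type*) [Group G] : Prop :=
  ∀ (p : ℕ) (M : Subgroup G), p.Prime → M.Normal → IsPGroup p M → M = ⊥

/-- The inductive statement: a core-free group of element orders at most 5 has order 60 or 360. -/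
def OrderBelow (N : ℕ) : Prop :=
  ∀ (Q : Type u) [Group Q] [Finite Q], Nat.card Q < N → P5 Q → CoreFree Q →
    Nat.card Q ≠ 1 → Nat.card Q = 60 ∨ Nat.card Q = 360

/-- A nontrivial core-free group is not solvable. -/
theorem not_isSolvable_of_coreFree {G : Type*} [Group G] [Finite G] (hc : CoreFree G)
    (h1 : Nat.card G ≠ 1) : ¬ Group.IsSolvable G := by
  intro hs
  obtain ⟨n, hn⟩ : ∃ n, derivedSeries G n = ⊥ := Group.IsSolvable.solvable
  have : Nontrivial G := Finite.one_lt_card_iff_nontrivial.mp (by have := Nat.card_pos (α := G); omega)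
  induction n with
  | zero =>
    rw [derivedSeries_zero] at hn
    exact top_ne_bot hn
  | succ n ih =>
    apply ih
    set A := derivedSeries G n with hA
    have hAn : A.Normal := by rw [hA]; infer_instance
    have hAc : ∀ a ∈ A, ∀ b ∈ A, a * b = b * a := fun a ha b hb => by
      have : ⁅a, b⁆ ∈ derivedSeries G (n + 1) := Subgroup.commutator_mem_commutator ha hb
      rw [hn, Subgroup.mem_bot] at this
      exact commutatorElement_eq_one_iff_mul_comm.mp this
    by_contra hne
    obtain ⟨p, hp, hpd⟩ := Nat.exists_prime_and_dvd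
      (show Nat.card A ≠ 1 from fun e => hne (Subgroup.eq_bot_of_card_eq _ e))
    have := Fact.mk hp
    obtain ⟨P⟩ : Nonempty (Sylow p A) := inferInstance
    have hPn : (P : Subgroup A).Normal := ⟨fun x hx y => by
      have : y * x * y⁻¹ = x := Subtype.ext (by
        show (y : G) * x * (y : G)⁻¹ = x
        rw [hAc _ y.2 _ x.2, mul_inv_cancel_right])
      rwa [this]⟩
    have : (P : Subgroup A).Characteristic := P.characteristic_of_normal hPn
    have hbot := hc p ((P : Subgroup A).map A.subtype) hp inferInstance (P.2.map _)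
    rw [Subgroup.map_eq_bot_iff_of_injective _ A.subtype_injective] at hbot
    exact P.ne_bot_of_dvd_card hpd hbot

/-- The three primes divide the order of a nontrivial core-free group. -/
theorem three_primes {G : Type u} [Group G] [Finite G] (h : P5 G) (hc : CoreFree G)
    (h1 : Nat.card G ≠ 1) : 2 ∣ Nat.card G ∧ 3 ∣ Nat.card G ∧ 5 ∣ Nat.card G := by
  have key : ∀ r : ℕ, (r = 2 ∨ r = 3 ∨ r = 5) → r ∣ Nat.card G := by
    intro r hr
    by_contra hrd
    obtain ⟨p, q, hp, hq, hpq⟩ : ∃ p q, p.Prime ∧ q.Prime ∧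
        ∀ s : ℕ, s.Prime → s ∣ Nat.card G → s = p ∨ s = q := by
      rcases hr with rfl | rfl | rfl
      · exact ⟨3, 5, by norm_num, by norm_num, fun s hs hsd => by
          rcases prime_cases h hs hsd with rfl | rfl | rfl
          exacts [absurd hsd hrd, Or.inl rfl, Or.inr rfl]⟩
      · exact ⟨2, 5, by norm_num, by norm_num, fun s hs hsd => by
          rcases prime_cases h hs hsd with rfl | rfl | rfl
          exacts [Or.inl rfl, absurd hsd hrd, Or.inr rfl]⟩
      · exact ⟨2, 3, by norm_num, by norm_num, fun s hs hsd => by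
          rcases prime_cases h hs hsd with rfl | rfl | rfl
          exacts [Or.inl rfl, Or.inr rfl, absurd hsd hrd]⟩
    set n := Nat.card G with hn
    have hn0 : n ≠ 0 := Nat.card_pos.ne'
    have hm : ∃ m, n / p ^ n.factorization p = q ^ m :=
      ⟨_, Nat.eq_prime_pow_of_unique_prime_dvd (Nat.ordCompl_pos p hn0).ne' fun {s} hs hsd =>
        (hpq s hs (hsd.trans (Nat.ordCompl_dvd n p))).resolve_left fun e =>
          Nat.not_dvd_ordCompl hp hn0 (e ▸ hsd)⟩
    obtain ⟨m, hm⟩ := hm
    exact not_isSolvable_of_coreFree hc h1 (Burnside.isSolvable_of_card_eq_prime_pow_mul hp hq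
      (a := n.factorization p) (b := m)
      (by rw [← hm]; exact (Nat.mul_div_cancel' (Nat.ordProj_dvd n p)).symm))
  exact ⟨key 2 (by omega), key 3 (by omega), key 5 (by omega)⟩

variable {Q : Type u} [Group Q] [Finite Q]

theorem card_sylow_eq {p : ℕ} [Fact p.Prime] (P : Sylow p Q) :
    Nat.card (Sylow p Q) = (Subgroup.normalizer ((P : Subgroup Q) : Set Q)).index :=
  P.card_eq_index_normalizer

/-- Arithmetic for order 60. -/
theorem sixty (h : P5 Q) (hc : CoreFree Q) (hQ : Nat.card Q = 60) :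
    Nat.card (Sylow 2 Q) = 5 ∧ (∀ T : Sylow 2 Q, Nat.card (T : Subgroup Q) = 4) ∧
      ∀ T T' : Sylow 2 Q, T ≠ T' → (T : Subgroup Q) ⊓ (T' : Subgroup Q) = ⊥ := by
  have : Fact (Nat.Prime 2) := ⟨Nat.prime_two⟩
  have : Fact (Nat.Prime 3) := ⟨Nat.prime_three⟩
  have : Fact (Nat.Prime 5) := ⟨Nat.prime_five⟩
  have hsyl : ∀ (p k m : ℕ) [Fact p.Prime] (T : Sylow p Q), 60 = p ^ k * m → ¬ p ∣ m →
      Nat.card (T : Subgroup Q) = p ^ k := by
    intro p k m _ T hkm hm
    obtain ⟨n, hn⟩ := IsPGroup.iff_card.mp T.2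
    have h1 : p ^ n ∣ p ^ k * m := by rw [← hkm, ← hQ, ← hn]; exact Subgroup.card_subgroup_dvd_card _
    have hco : ∀ j : ℕ, (p ^ j).Coprime m := fun j =>
      Nat.Coprime.pow_left _ ((Nat.Prime.coprime_iff_not_dvd Fact.out).mpr hm)
    have h2 : p ^ k ∣ Nat.card (T : Subgroup Q) :=
      T.pow_dvd_card_of_pow_dvd_card (by rw [hQ, hkm]; exact dvd_mul_right _ _)
    exact Nat.dvd_antisymm (hn ▸ (hco n).dvd_of_dvd_mul_right h1) h2
  have hT4 : ∀ T : Sylow 2 Q, Nat.card (T : Subgroup Q) = 4 := fun T =>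
    (hsyl 2 2 15 T (by norm_num) (by norm_num))
  have hinter : ∀ T T' : Sylow 2 Q, T ≠ T' → (T : Subgroup Q) ⊓ (T' : Subgroup Q) = ⊥ := by
    intro T T' hne
    rw [eq_bot_iff]
    rintro x ⟨hx, hx'⟩
    by_contra hx1
    rw [Subgroup.mem_bot] at hx1
    have hcomm : ∀ (S : Sylow 2 Q), x ∈ (S : Subgroup Q) → (S : Subgroup Q) ≤
        Subgroup.centralizer ({x} : Set Q) := by
      intro S hxS y hy
      have := IsPGroup.isMulCommutative_of_card_eq_prime_sq (p := 2) (G := (S : Subgroup Q))
        (by rw [hT4]; norm_num)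
      rw [Subgroup.mem_centralizer_singleton_iff]
      exact congrArg Subtype.val (this.is_comm.comm (⟨y, hy⟩ : (S : Subgroup Q)) ⟨x, hxS⟩)
    have hp : IsPGroup 2 (Subgroup.centralizer ({x} : Set Q)) :=
      isPGroup_of_centralizes h (prime_dvd_orderOf T.2 hx hx1)
        fun y hy => (Subgroup.mem_centralizer_singleton_iff.mp hy).symm
    exact hne (Sylow.ext ((T.3 hp (hcomm T hx)).symm.trans (T'.3 hp (hcomm T' hx'))))
  refine ⟨?_, hT4, hinter⟩
  obtain ⟨T⟩ : Nonempty (Sylow 2 Q) := inferInstance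
  obtain ⟨P⟩ : Nonempty (Sylow 3 Q) := inferInstance
  obtain ⟨R⟩ : Nonempty (Sylow 5 Q) := inferInstance
  have h3 := card_orderOf_eq h (Or.inl rfl) P
  have h5 := card_orderOf_eq h (Or.inr rfl) R
  rw [hsyl 3 1 20 P (by norm_num) (by norm_num), ← card_sylow_eq] at h3
  rw [hsyl 5 1 12 R (by norm_num) (by norm_num), ← card_sylow_eq] at h5
  have h2 : Nat.card {y : Q // orderOf y = 2 ∨ orderOf y = 4} = Nat.card (Sylow 2 Q) * 3 := by
    have e : Nat.card (T : Subgroup Q) - 1 = 3 := by rw [hT4]
    rw [← e, ← card_ne_one, card_sylow_eq T, ← card_conj_union]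
    · refine Nat.card_congr (Equiv.subtypeEquivRight fun y => ⟨fun hy => ?_, ?_⟩)
      · have hz : IsPGroup 2 (Subgroup.zpowers y) := by
          rcases hy with e | e
          · exact IsPGroup.of_card (n := 1) (by rw [Nat.card_zpowers, e, pow_one])
          · exact IsPGroup.of_card (n := 2) (by rw [Nat.card_zpowers, e]; norm_num)
        obtain ⟨S, hS⟩ := hz.exists_le_sylow
        obtain ⟨g, hg⟩ := MulAction.exists_smul_eq Q S T
        refine ⟨g, ?_, fun e => ?_⟩
        · rw [← hg, Sylow.coe_subgroup_smul]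
          exact Subgroup.smul_mem_pointwise_smul y (MulAut.conj g) _ (hS (Subgroup.mem_zpowers y))
        · rw [conj_eq_one_iff.mp e, orderOf_one] at hy
          omega
      · rintro ⟨g, hg, hg1⟩
        have h1 := prime_dvd_orderOf T.2 hg hg1
        rw [← MulAut.conj_apply, MulEquiv.orderOf_eq] at h1
        have := order_cases h y
        omega
    · rintro n hn x ⟨hx, hx1⟩
      exact ⟨(Subgroup.mem_normalizer_iff.mp hn x).mp hx, fun e => hx1 (conj_eq_one_iff.mp e)⟩
    · rintro g x ⟨hx, hx1⟩ ⟨hgx, -⟩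
      refine Sylow.smul_eq_iff_mem_normalizer.mp ?_
      by_contra hne
      have hmem : g * x * g⁻¹ ∈ ((g • T : Sylow 2 Q) : Subgroup Q) ⊓ (T : Subgroup Q) := by
        refine ⟨?_, hgx⟩
        rw [Sylow.coe_subgroup_smul]
        exact Subgroup.smul_mem_pointwise_smul x (MulAut.conj g) _ hx
      rw [hinter _ _ hne, Subgroup.mem_bot] at hmem
      exact hx1 (conj_eq_one_iff.mp hmem)
  have hsum := card_eq_sum h
  rw [hQ, h2, h3, h5] at hsum
  have d2 : Nat.card (Sylow 2 Q) ∣ 15 := by
    have := T.card_dvd_index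
    have e := (T : Subgroup Q).card_mul_index
    rw [hT4, hQ] at e
    rwa [show (T : Subgroup Q).index = 15 by omega] at this
  have d3 : Nat.card (Sylow 3 Q) ∣ 20 := by
    have := P.card_dvd_index
    have e := (P : Subgroup Q).card_mul_index
    rw [hsyl 3 1 20 P (by norm_num) (by norm_num), hQ] at e
    rwa [show (P : Subgroup Q).index = 20 by omega] at this
  have d5 : Nat.card (Sylow 5 Q) ∣ 12 := by
    have := R.card_dvd_index
    have e := (R : Subgroup Q).card_mul_index
    rw [hsyl 5 1 12 R (by norm_num) (by norm_num), hQ] at e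
    rwa [show (R : Subgroup Q).index = 12 by omega] at this
  have m3 := card_sylow_modEq_one 3 Q
  have m5 := card_sylow_modEq_one 5 Q
  unfold Nat.ModEq at m3 m5
  have b2 := Nat.le_of_dvd (by norm_num) d2
  have b3 := Nat.le_of_dvd (by norm_num) d3
  have b5 := Nat.le_of_dvd (by norm_num) d5
  generalize Nat.card (Sylow 2 Q) = a at *
  generalize Nat.card (Sylow 3 Q) = b at *
  generalize Nat.card (Sylow 5 Q) = c at *
  have hc2 : a = 1 ∨ a = 3 ∨ a = 5 ∨ a = 15 := by
    interval_cases a <;> first | omega | norm_num at d2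
  have hc5 : c = 1 ∨ c = 6 := by
    interval_cases c <;> first | omega | norm_num at d5
  have hb3 : b = 1 ∨ b = 4 ∨ b = 10 := by
    interval_cases b <;> first | omega | norm_num at d3
  omega

end Cfsg.Agent.Lib.SpecFive
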