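import Cfsg.Agent.Lib.SpecFive.Inversion
import Cfsg.Agent.Lib.SpecFive.Quot

/-!
The structure of a group with elements of order at most five, with a nontrivial largest normal
2-subgroup, and with a non-normal Sylow 2-subgroup.
-/

set_option autoImplicit false

namespace Cfsg.Agent.Lib.SpecFive

universe u

/-- The 2-local data: `k` is the index of `E` in a Sylow 2-subgroup, `q` the number of those. -/
structure Local {G : Type u} [Group G] (E : Subgroup G) (k q : ℕ) : Prop where
  exp : ∀ n ∈ E, n * n = 1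
  fixed : ∀ t : G, t ∉ E → t * t ∈ E →
    Nat.card ↥(E ⊓ Subgroup.centralizer ({t} : Set G)) ^ 2 = Nat.card E
  shape : (k = 2 ∧ (q = 3 ∨ q = 5)) ∨ (k = 4 ∧ q = 5)
  card_eq : (k = 2 → Nat.card G = Nat.card E * (2 * q)) ∧ (k = 4 → Nat.card G = Nat.card E * 60)
  card_sylow : ∀ T : Sylow 2 G, Nat.card (T : Subgroup G) = Nat.card E * k
  number : Nat.card (Sylow 2 G) = q
  inter : ∀ T T' : Sylow 2 G, T ≠ T' → (T : Subgroup G) ⊓ (T' : Subgroup G) = E
  dvd : q ∣ Nat.card E - 1 ∧ (k = 4 → 3 ∣ Nat.card E - 1)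
  cent : Subgroup.centralizer (E : Set G) ≤ E

variable {Q : Type u} [Group Q] [Finite Q]

/-- The cases for the quotient. -/
theorem quot_cases (h : P5 Q) (h2 : 2 ∣ Nat.card Q)
    (hO2 : ∀ M : Subgroup Q, M.Normal → IsPGroup 2 M → M = ⊥)
    (hcy : ∀ (p : ℕ) (_ : Fact p.Prime), (p = 3 ∨ p = 5) →
      ∀ P : Sylow p Q, Nat.card (P : Subgroup Q) ≤ p)
    {N : ℕ} (IH : OrderBelow.{u} N) (hN : Nat.card Q < N) :
    (CoreFree Q ∧ Nat.card Q = 60) ∨
    (∃ (p c : ℕ) (P : Subgroup Q), (p = 3 ∧ c = 2 ∨ p = 5 ∧ c = 2 ∨ p = 5 ∧ c = 4) ∧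
      P.Normal ∧ Nat.card P = p ∧ Nat.card Q = p * c) := by
  have h2' : Fact (Nat.Prime 2) := ⟨Nat.prime_two⟩
  by_cases hc : CoreFree Q
  · left
    refine ⟨hc, ?_⟩
    have h1 : Nat.card Q ≠ 1 := fun e => by rw [e] at h2; omega
    rcases IH Q hN h hc h1 with e | e
    · exact e
    · exfalso
      have h3 : Fact (Nat.Prime 3) := ⟨Nat.prime_three⟩
      obtain ⟨P⟩ : Nonempty (Sylow 3 Q) := inferInstance
      have h9 := Nat.le_of_dvd Nat.card_pos (P.pow_dvd_card_of_pow_dvd_card (n := 2) (by rw [e]; norm_num))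
      have := hcy 3 h3 (Or.inl rfl) P
      omega
  right
  simp only [CoreFree, not_forall] at hc
  obtain ⟨p, M, hp, hM, hMp, hMne⟩ := hc
  have := Fact.mk hp
  have hpd : p ∣ Nat.card Q :=
    ((hMp.card_eq_or_dvd).resolve_left fun e => hMne (Subgroup.eq_bot_of_card_eq _ e)).trans
      (Subgroup.card_subgroup_dvd_card M)
  have hp35 : p = 3 ∨ p = 5 := by
    rcases prime_cases h hp hpd with rfl | hp'
    · exact absurd (hO2 M hM hMp) hMne
    · exact hp'
  obtain ⟨P, hPn, hidx, hdvd⟩ := odd_core h hp35 M hMp hMne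
  have hcard : Nat.card (P : Subgroup Q) = p := by
    refine le_antisymm (hcy p (Fact.mk hp) hp35 P) (Nat.le_of_dvd Nat.card_pos ?_)
    simpa using P.pow_dvd_card_of_pow_dvd_card (n := 1) (by simpa using hpd)
  have e := (P : Subgroup Q).card_mul_index
  rw [hcard] at e hdvd
  have hev : 2 ∣ (P : Subgroup Q).index := by
    rw [← e] at h2
    exact ((Nat.coprime_primes Nat.prime_two hp).mpr (by omega)).dvd_of_dvd_mul_left h2
  refine ⟨p, (P : Subgroup Q).index, P, ?_, hPn, hcard, e.symm⟩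
  have hle := Nat.le_of_dvd (by omega) hdvd
  rcases hp35 with rfl | rfl <;> omega

/-- An involution inverts an element of order 3 or 5. -/
theorem exists_inverted (h : P5 Q)
    (hQ : (CoreFree Q ∧ Nat.card Q = 60) ∨
      (∃ (p : ℕ) (P : Subgroup Q), (p = 3 ∨ p = 5) ∧ P.Normal ∧ Nat.card P = p))
    {t : Q} (ht : orderOf t = 2) :
    ∃ a : Q, (orderOf a = 3 ∨ orderOf a = 5) ∧ t * a * t⁻¹ = a⁻¹ := by
  have h2' : Fact (Nat.Prime 2) := ⟨Nat.prime_two⟩
  have htt : t * t = 1 := by have := pow_orderOf_eq_one t; rwa [ht, sq] at this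
  rcases hQ with ⟨hc, h60⟩ | ⟨p, P, hp35, hPn, hP⟩
  · obtain ⟨hn, h4, hint⟩ := sixty h hc h60
    have hz : IsPGroup 2 (Subgroup.zpowers t) := IsPGroup.of_card (n := 1) (by
      rw [Nat.card_zpowers, ht, pow_one])
    obtain ⟨T, hT⟩ := hz.exists_le_sylow
    have htT : t ∈ (T : Subgroup Q) := hT (Subgroup.mem_zpowers t)
    have : Nontrivial (Sylow 2 Q) := Finite.one_lt_card_iff_nontrivial.mp (by omega)
    obtain ⟨T', hne⟩ := exists_ne T
    obtain ⟨⟨s, hs⟩, hso⟩ := exists_prime_orderOf_dvd_card' (G := (T' : Subgroup Q)) 2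
      (by rw [h4]; norm_num)
    rw [Subgroup.orderOf_mk] at hso
    have hss : s * s = 1 := by have := pow_orderOf_eq_one s; rwa [hso, sq] at this
    have ht1 : t ≠ 1 := fun e => by rw [e, orderOf_one] at ht; omega
    have hs1 : s ≠ 1 := fun e => by rw [e, orderOf_one] at hso; omega
    have hts : t * s ≠ 1 := by
      intro e
      have e' : t = s := (eq_inv_of_mul_eq_one_left e).trans (inv_eq_of_mul_eq_one_left hss)
      exact ht1 (Subgroup.mem_bot.mp (hint T T' hne.symm ▸ ⟨htT, e' ▸ hs⟩))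
    have hinvts : t * (t * s) * t⁻¹ = (t * s)⁻¹ := by
      rw [mul_inv_rev, inv_eq_of_mul_eq_one_left htt, inv_eq_of_mul_eq_one_left hss,
        ← mul_assoc, htt, one_mul]
    have hcent : ∀ (x : Q) (S : Sylow 2 Q), x ∈ (S : Subgroup Q) → x ≠ 1 →
        ∀ z, Commute x z → z ∈ (S : Subgroup Q) := by
      intro x S hx hx1 z hz
      have hcm := IsPGroup.isMulCommutative_of_card_eq_prime_sq (p := 2) (G := (S : Subgroup Q))
        (by rw [h4]; norm_num)
      have hp : IsPGroup 2 (Subgroup.centralizer ({x} : Set Q)) :=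
        isPGroup_of_centralizes h (prime_dvd_orderOf S.2 hx hx1)
          fun y hy => (Subgroup.mem_centralizer_singleton_iff.mp hy).symm
      rw [← S.3 hp (fun y hy => Subgroup.mem_centralizer_singleton_iff.mpr
        (congrArg Subtype.val (hcm.is_comm.comm (⟨y, hy⟩ : (S : Subgroup Q)) ⟨x, hx⟩)))]
      exact Subgroup.mem_centralizer_singleton_iff.mpr hz.symm
    rcases order_cases h (t * s) with e | e | e | e | e
    · exact absurd (orderOf_eq_one_iff.mp e) hts
    · exfalso
      have hcts : Commute t s := by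
        have h1 : t * s * (t * s) = 1 := by rw [← sq, ← e, pow_orderOf_eq_one]
        calc t * s = (t * s)⁻¹ := (inv_eq_of_mul_eq_one_left h1).symm
          _ = s * t := by
            rw [mul_inv_rev, inv_eq_of_mul_eq_one_left htt, inv_eq_of_mul_eq_one_left hss]
      exact hs1 (Subgroup.mem_bot.mp (hint T T' hne.symm ▸ ⟨hcent t T htT ht1 s hcts, hs⟩))
    · exact ⟨_, Or.inl e, hinvts⟩
    · exfalso
      set z := t * s * (t * s) with hzdef
      have hzz : z * z = 1 := by
        have := pow_orderOf_eq_one (t * s)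
        rw [e] at this
        rw [hzdef]
        simpa [pow_succ, mul_assoc] using this
      have hz1 : z ≠ 1 := by
        intro e'
        have := orderOf_dvd_iff_pow_eq_one.mpr (show (t * s) ^ 2 = 1 by rwa [sq])
        rw [e] at this
        norm_num at this
      have hct : Commute t z := by
        have h1 : t * z * t⁻¹ = z := by
          calc t * z * t⁻¹ = (t * (t * s) * t⁻¹) * (t * (t * s) * t⁻¹) := by rw [hzdef]; group
            _ = z⁻¹ := by rw [hinvts, hzdef]; group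
            _ = z := inv_eq_of_mul_eq_one_left hzz
        exact mul_inv_eq_iff_eq_mul.mp h1
      have hcs : Commute s z := by
        have : Commute (t * s) z := ((Commute.refl _).mul_right (Commute.refl _))
        have hh := hct.inv_left.mul_left this
        rwa [inv_mul_cancel_left] at hh
      exact hz1 (Subgroup.mem_bot.mp
        (hint T T' hne.symm ▸ ⟨hcent t T htT ht1 z hct, hcent s T' hs hs1 z hcs⟩))
    · exact ⟨_, Or.inr e, hinvts⟩
  · have hp : p.Prime := by rcases hp35 with rfl | rfl <;> norm_num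
    obtain ⟨⟨a, ha⟩, hao⟩ : ∃ a : P, orderOf a = p := by
      have := Fact.mk hp
      exact exists_prime_orderOf_dvd_card' p (by rw [hP])
    rw [Subgroup.orderOf_mk] at hao
    refine ⟨a, hao ▸ hp35, ?_⟩
    set b := t * a * t⁻¹ with hb
    have hbP : b ∈ P := hPn.conj_mem a ha t
    have hti : t⁻¹ = t := inv_eq_of_mul_eq_one_left htt
    have hcomm : Commute a b := by
      have := Fact.mk hp
      have hcyc : IsCyclic P := isCyclic_of_prime_card hP
      have := hcyc.isMulCommutative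
      exact congrArg Subtype.val (this.is_comm.comm (⟨a, ha⟩ : P) ⟨b, hbP⟩)
    have hfix : Commute t (a * b) := by
      have h1 : t * (a * b) * t⁻¹ = b * a := by
        rw [hb, hti]
        calc t * (a * (t * a * t)) * t = (t * a * t) * a * (t * t) := by group
          _ = t * a * t * a := by rw [htt, mul_one]
      rw [← hcomm.eq] at h1
      exact mul_inv_eq_iff_eq_mul.mp h1
    by_contra hne
    have hab : a * b ≠ 1 := fun e => hne (eq_inv_of_mul_eq_one_right e)
    have : Fact p.Prime := ⟨hp⟩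
    exact false_of_commute h Nat.prime_two hp (by omega) ht.symm.dvd
      (prime_dvd_orderOf (IsPGroup.of_card (n := 1) (by rw [hP, pow_one]))
        (P.mul_mem ha hbP) hab) hfix

/-- In a `5 : 4` there is an element of order 4 acting as a square root of inversion. -/
theorem exists_five_four (h : P5 Q) {P : Subgroup Q} (hPn : P.Normal) (hP : Nat.card P = 5)
    (hQ : Nat.card Q = 5 * 4) : ∃ a s : Q, orderOf a = 5 ∧ s ^ 4 = 1 ∧ s ^ 2 ≠ 1 ∧
      ((a ^ 2)⁻¹ * (s * a * s⁻¹) = 1 ∨ (a ^ 3)⁻¹ * (s * a * s⁻¹) = 1) := by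
  have : Fact (Nat.Prime 5) := ⟨Nat.prime_five⟩
  have h2' : Fact (Nat.Prime 2) := ⟨Nat.prime_two⟩
  obtain ⟨⟨a, ha⟩, hao⟩ := exists_prime_orderOf_dvd_card' (G := P) 5 (by rw [hP])
  rw [Subgroup.orderOf_mk] at hao
  have hidx : P.index = 4 := by
    have := P.card_mul_index
    rw [hP, hQ] at this
    omega
  obtain ⟨K, hK⟩ := Subgroup.exists_right_complement'_of_coprime (N := P)
    (by rw [hP, hidx]; norm_num)
  have hK4 : Nat.card K = 4 := by rw [← hK.symm.index_eq_card, hidx]
  have hPz : ∀ x ∈ P, ∃ j : ℕ, j < 5 ∧ x = a ^ j := by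
    intro x hx
    have e : Subgroup.zpowers a = P :=
      Subgroup.eq_of_le_of_card_ge (Subgroup.zpowers_le.mpr ha) (by rw [Nat.card_zpowers, hao, hP])
    obtain ⟨j, hj⟩ := (mem_powers_iff_mem_zpowers (x := a)).mpr (e ▸ hx : x ∈ Subgroup.zpowers a)
    refine ⟨j % 5, Nat.mod_lt _ (by norm_num), ?_⟩
    rw [← hj]
    show a ^ j = _
    rw [← hao, pow_mod_orderOf]
  have hfree : ∀ k ∈ K, k ≠ 1 → k * a * k⁻¹ ≠ a := by
    intro k hk hk1 e
    exact false_of_commute h Nat.prime_two Nat.prime_five (by norm_num)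
      (prime_dvd_orderOf (IsPGroup.of_card (n := 2) (by rw [hK4]; norm_num)) hk hk1) hao.symm.dvd
      (mul_inv_eq_iff_eq_mul.mp e)
  obtain ⟨s, hs, hs2⟩ : ∃ s ∈ K, s ^ 2 ≠ 1 := by
    by_contra hall
    push Not at hall
    have hinv : ∀ k ∈ K, k ≠ 1 → k * a * k⁻¹ = a⁻¹ := by
      intro k hk hk1
      obtain ⟨j, hj, hje⟩ := hPz _ (hPn.conj_mem a ha k)
      have e2 : a ^ (j * j) = a := by
        rw [pow_mul, ← hje, conj_pow, ← hje]
        calc k * (k * a * k⁻¹) * k⁻¹ = k ^ 2 * a * (k ^ 2)⁻¹ := by rw [sq]; group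
          _ = a := by rw [hall k hk]; group
      have e3 : (j * j) % 5 = 1 := by
        have := pow_inj_mod.mp (show a ^ (j * j) = a ^ 1 by rwa [pow_one])
        rwa [hao] at this
      interval_cases j <;> norm_num at e3
      · exact absurd (by simpa using hje) (hfree k hk hk1)
      · rw [hje]; exact eq_inv_of_mul_eq_one_left (by rw [← pow_succ]; exact orderOf_dvd_iff_pow_eq_one.mp (by rw [hao]))
    have hnt : Nontrivial K := Finite.one_lt_card_iff_nontrivial.mp (by rw [hK4]; norm_num)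
    obtain ⟨⟨k, hk⟩, hk1⟩ := exists_ne (1 : K)
    have hk1' : k ≠ 1 := fun e => hk1 (Subtype.ext e)
    obtain ⟨l, hl, hlk⟩ : ∃ l ∈ K, l ∉ Subgroup.zpowers k := by
      by_contra hc
      push Not at hc
      have := Subgroup.card_le_of_le (K := Subgroup.zpowers k) hc
      rw [hK4, Nat.card_zpowers, orderOf_eq_prime (hall k hk) hk1'] at this
      omega
    have hl1 : l ≠ 1 := fun e => hlk (e ▸ one_mem _)
    have hkl : k * l ≠ 1 := fun e => hlk (by
      rw [eq_inv_of_mul_eq_one_right e]; exact inv_mem (Subgroup.mem_zpowers k))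
    refine hfree (k * l) (K.mul_mem hk hl) hkl ?_
    calc k * l * a * (k * l)⁻¹ = k * (l * a * l⁻¹) * k⁻¹ := by group
      _ = (k * a * k⁻¹)⁻¹ := by rw [hinv l hl hl1]; group
      _ = a := by rw [hinv k hk hk1', inv_inv]
  refine ⟨a, s, hao, ?_, hs2, ?_⟩
  · rw [← hK4]
    exact congrArg Subtype.val (pow_card_eq_one' (G := K) (x := ⟨s, hs⟩))
  obtain ⟨j, hj, hje⟩ := hPz _ (hPn.conj_mem a ha s)
  rw [hje]
  interval_cases j
  · exfalso
    rw [pow_zero, conj_eq_one_iff] at hje
    rw [hje, orderOf_one] at hao; omega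
  · exfalso
    rw [pow_one] at hje
    exact hfree s hs (fun e => hs2 (by rw [e, one_pow])) hje
  · left; exact inv_mul_cancel _
  · right; exact inv_mul_cancel _
  · exfalso
    have hje' : s * a * s⁻¹ = a⁻¹ := by
      rw [hje]; exact eq_inv_of_mul_eq_one_left (by rw [← pow_succ]; exact orderOf_dvd_iff_pow_eq_one.mp (by rw [hao]))
    refine hfree (s ^ 2) (K.pow_mem hs 2) hs2 ?_
    calc s ^ 2 * a * (s ^ 2)⁻¹ = s * (s * a * s⁻¹) * s⁻¹ := by rw [sq]; group
      _ = s * a⁻¹ * s⁻¹ := by rw [hje']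
      _ = (s * a * s⁻¹)⁻¹ := by group
      _ = a := by rw [hje', inv_inv]

/-- The local structure theorem. -/
theorem exists_local {G : Type u} [Group G] [Finite G] (h : P5 G) {N : ℕ} (IH : OrderBelow.{u} N)
    (hN : Nat.card G ≤ N) (E : Subgroup G) [hEn : E.Normal] (hE : IsPGroup 2 E) (hne : E ≠ ⊥)
    (hmax : ∀ M : Subgroup G, M.Normal → IsPGroup 2 M → M ≤ E)
    (hnn : ∀ T : Sylow 2 G, ¬ (T : Subgroup G).Normal) : ∃ k q, Local E k q := by
  classical
  have h2' : Fact (Nat.Prime 2) := ⟨Nat.prime_two⟩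
  set π := QuotientGroup.mk' E with hπdef
  have hπs : Function.Surjective π := QuotientGroup.mk'_surjective E
  have hker : π.ker = E := QuotientGroup.ker_mk' E
  have hkp : IsPGroup 2 π.ker := hker.symm ▸ hE
  have hP := h.quotient E
  have hET : ∀ T : Sylow 2 G, E ≤ (T : Subgroup G) := fun T => hE.le_sylow_of_normal T
  have hcard : Nat.card G = Nat.card (G ⧸ E) * Nat.card E := (E.index_mul_card).symm
  have hO2 : ∀ M : Subgroup (G ⧸ E), M.Normal → IsPGroup 2 M → M = ⊥ := by
    intro M hM hMp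
    have hle : M.comap π ≤ π.ker := by
      rw [hker]; exact hmax _ (hM.comap π) (hMp.comap_of_ker_isPGroup π hkp)
    rw [eq_bot_iff]
    intro x hx
    obtain ⟨g, rfl⟩ := hπs x
    exact Subgroup.mem_bot.mpr (hle (Subgroup.mem_comap.mpr hx))
  have h2 : 2 ∣ Nat.card (G ⧸ E) := by
    by_contra hnd
    obtain ⟨T⟩ : Nonempty (Sylow 2 G) := inferInstance
    apply hnn T
    have : (T : Subgroup G) ≤ E := by
      intro x hx
      have h4 := T.2.map π
      have hb : (T : Subgroup G).map π = ⊥ := by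
        rcases h4.card_eq_or_dvd with e | e
        · exact Subgroup.eq_bot_of_card_eq _ e
        · exact absurd (e.trans (Subgroup.card_subgroup_dvd_card _)) hnd
      rw [← hker]
      exact (Subgroup.map_eq_bot_iff _).mp hb hx
    rw [le_antisymm this (hET T)]
    exact hEn
  have hcy : ∀ (p : ℕ) (_ : Fact p.Prime), (p = 3 ∨ p = 5) →
      ∀ P : Sylow p (G ⧸ E), Nat.card (P : Subgroup (G ⧸ E)) ≤ p := by
    intro p _ hp35 P
    obtain ⟨R⟩ : Nonempty (Sylow p G) := inferInstance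
    have hR := card_le_prime h (p := p) (q := 2) (by omega) hp35 R E R.2 hE hne
      (by rw [Subgroup.normalizer_eq_top_iff.mpr hEn]; exact le_top)
    obtain ⟨n, hn⟩ := IsPGroup.iff_card.mp P.2
    have hdvd : p ^ n ∣ Nat.card G :=
      (hn ▸ Subgroup.card_subgroup_dvd_card _).trans (hcard ▸ dvd_mul_right _ _)
    rw [hn]
    exact (Nat.le_of_dvd Nat.card_pos (R.pow_dvd_card_of_pow_dvd_card hdvd)).trans hR
  have hlt : Nat.card (G ⧸ E) < N := by
    have h1 : 1 < Nat.card E := (Subgroup.one_lt_card_iff_ne_bot E).mpr hne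
    have h3 : 0 < Nat.card (G ⧸ E) := Nat.card_pos
    nlinarith
  have hcases := quot_cases hP h2 hO2 hcy IH hlt
  -- lifts
  have hlift : ∀ x : G ⧸ E, (orderOf x = 3 ∨ orderOf x = 5) →
      ∃ a : G, π a = x ∧ orderOf a = orderOf x := by
    intro x hx
    obtain ⟨a, rfl⟩ := hπs x
    refine ⟨a, rfl, ?_⟩
    exact orderOf_eq_of_odd h hx (orderOf_map_dvd π a)
  have hQalt : (CoreFree (G ⧸ E) ∧ Nat.card (G ⧸ E) = 60) ∨
      (∃ (p : ℕ) (P : Subgroup (G ⧸ E)), (p = 3 ∨ p = 5) ∧ P.Normal ∧ Nat.card P = p) := by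
    rcases hcases with hh | ⟨p, c, P, hpc, hPn, hP', -⟩
    · exact Or.inl hh
    · exact Or.inr ⟨p, P, by omega, hPn, hP'⟩
  have hinvol : ∀ t : G, t ∉ E → t * t ∈ E →
      ∃ a u : G, (orderOf a = 3 ∨ orderOf a = 5) ∧ u * u = 1 ∧ cj u a = a⁻¹ ∧ u * t⁻¹ ∈ E := by
    intro t ht htt
    have hto : orderOf (π t) = 2 := orderOf_eq_prime
      (by rw [sq, ← map_mul]; exact (QuotientGroup.eq_one_iff _).mpr htt)
      (fun e => ht ((QuotientGroup.eq_one_iff _).mp e))
    obtain ⟨x, hx, hxt⟩ := exists_inverted hP hQalt hto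
    obtain ⟨a, rfl, hao⟩ := hlift x hx
    have hta : a * cj t a ∈ E := (QuotientGroup.eq_one_iff _).mp (by
      show π (a * cj t a) = 1
      simp only [cj, map_mul, map_inv]
      rw [hxt, mul_inv_cancel])
    obtain ⟨u, h1, h2, h3⟩ := exists_involution_inverting h hE (hao ▸ hx) htt hta
    exact ⟨a, u, hao ▸ hx, h1, h2, h3⟩
  obtain ⟨t₀, ht₀⟩ := exists_prime_orderOf_dvd_card' (G := G ⧸ E) 2 h2
  obtain ⟨g₀, rfl⟩ := hπs t₀
  obtain ⟨a₀, u₀, ha₀, hu₀, hua₀, -⟩ := hinvol g₀
    (fun e => by rw [show π g₀ = 1 from (QuotientGroup.eq_one_iff _).mpr e, orderOf_one] at ht₀; omega)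
    ((QuotientGroup.eq_one_iff _).mp (by
      show π (g₀ * g₀) = 1
      rw [map_mul, ← sq, ← ht₀, pow_orderOf_eq_one]))
  have hexp := mul_self_eq_one h E hE ha₀ hu₀ hua₀
  have hcomm : ∀ x ∈ E, ∀ y ∈ E, x * y = y * x := fun x hx y hy =>
    mul_sq_of_comm (hexp x hx) (hexp y hy) (hexp _ (E.mul_mem hx hy))
  have hfixed : ∀ t : G, t ∉ E → t * t ∈ E →
      Nat.card ↥(E ⊓ Subgroup.centralizer ({t} : Set G)) ^ 2 = Nat.card E := by
    intro t ht htt
    obtain ⟨a, u, ha, hu, hua, hut⟩ := hinvol t ht htt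
    have : E ⊓ Subgroup.centralizer ({t} : Set G) = E ⊓ Subgroup.centralizer ({u} : Set G) := by
      ext x
      simp only [Subgroup.mem_inf, Subgroup.mem_centralizer_singleton_iff]
      constructor
      · rintro ⟨hx, hxt⟩
        refine ⟨hx, ?_⟩
        have h1 := hcomm x hx _ hut
        calc x * u = x * (u * t⁻¹) * t := by group
          _ = u * t⁻¹ * (x * t) := by rw [h1]; group
          _ = u * x := by rw [hxt]; group
      · rintro ⟨hx, hxu⟩
        refine ⟨hx, ?_⟩
        have h1 := hcomm x hx _ (E.inv_mem hut)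
        calc x * t = x * (u * t⁻¹)⁻¹ * u := by group
          _ = (u * t⁻¹)⁻¹ * (x * u) := by rw [h1]; group
          _ = t * x := by rw [hxu]; group
    rw [this]
    exact card_fixed_sq h E hE ha hu hua
  have hcent : Subgroup.centralizer (E : Set G) ≤ E := by
    obtain ⟨e, he, he1⟩ := exists_mem_ne_one hne
    exact hmax _ inferInstance (isPGroup_of_centralizes h (prime_dvd_orderOf hE he he1)
      fun x hx => Subgroup.mem_centralizer_iff.mp hx e he)
  have hfree : ∀ r : ℕ, (r = 3 ∨ r = 5) → r ∣ Nat.card (G ⧸ E) → r ∣ Nat.card E - 1 := by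
    intro r hr hrd
    have : Fact r.Prime := ⟨by rcases hr with rfl | rfl <;> norm_num⟩
    obtain ⟨x, hx⟩ := exists_prime_orderOf_dvd_card' (G := G ⧸ E) r hrd
    obtain ⟨a, -, hao⟩ := hlift x (hx ▸ hr)
    rw [← card_ne_one, ← hx, ← hao, ← Nat.card_zpowers]
    let X : Set G := {y : G | y ∈ E ∧ y ≠ 1}
    let _ : MulAction (Subgroup.zpowers a) X :=
      { smul := fun k y => ⟨(k : G) * y * (k : G)⁻¹, hEn.conj_mem _ y.2.1 _,
          fun e => y.2.2 (conj_eq_one_iff.mp e)⟩
        one_smul := fun y => Subtype.ext (by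
          show ((1 : Subgroup.zpowers a) : G) * y * ((1 : Subgroup.zpowers a) : G)⁻¹ = y
          simp)
        mul_smul := fun k l y => Subtype.ext (by
          show ((k * l : Subgroup.zpowers a) : G) * y * ((k * l : Subgroup.zpowers a) : G)⁻¹ =
            (k : G) * ((l : G) * y * (l : G)⁻¹) * (k : G)⁻¹
          simp [mul_assoc]) }
    refine card_dvd_of_free (X := X) fun k y hy => ?_
    by_contra hk
    have e : (k : G) * y * (k : G)⁻¹ = y := congrArg Subtype.val hy
    refine false_of_commute h (p := r) Fact.out Nat.prime_two (by omega) ?_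
      (prime_dvd_orderOf hE y.2.1 y.2.2) (mul_inv_eq_iff_eq_mul.mp e)
    have hzr : IsPGroup r (Subgroup.zpowers a) := IsPGroup.of_card (n := 1) (by
      rw [Nat.card_zpowers, hao, hx, pow_one])
    exact prime_dvd_orderOf hzr k.2 (fun e => hk (Subtype.ext e))
  -- Sylow subgroups
  have hmapinj : Function.Injective (Sylow.mapSurjective hπs : Sylow 2 G → Sylow 2 (G ⧸ E)) := by
    intro T T' hTT
    apply Sylow.ext
    have e : (T : Subgroup G).map π = (T' : Subgroup G).map π := by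
      simpa [Sylow.coe_mapSurjective] using congrArg (fun S : Sylow 2 (G ⧸ E) => (S : Subgroup (G ⧸ E))) hTT
    rw [← Subgroup.comap_map_eq_self (f := π) (H := (T : Subgroup G)) (by rw [hker]; exact hET T), e,
      Subgroup.comap_map_eq_self (by rw [hker]; exact hET T')]
  have hnum : Nat.card (Sylow 2 G) = Nat.card (Sylow 2 (G ⧸ E)) :=
    Nat.card_congr (Equiv.ofBijective _ ⟨hmapinj, Sylow.mapSurjective_surjective hπs 2⟩)
  have hsylcard : ∀ T : Sylow 2 G, Nat.card (T : Subgroup G) =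
      Nat.card E * Nat.card ((T.mapSurjective hπs : Sylow 2 (G ⧸ E)) : Subgroup (G ⧸ E)) := by
    intro T
    rw [Sylow.coe_mapSurjective, ← Subgroup.relIndex_ker, hker, ← Subgroup.relIndex_bot_left E,
      Subgroup.relIndex_mul_relIndex _ _ _ bot_le (hET T), Subgroup.relIndex_bot_left]
  have hinter : (∀ S S' : Sylow 2 (G ⧸ E), S ≠ S' →
      (S : Subgroup (G ⧸ E)) ⊓ (S' : Subgroup (G ⧸ E)) = ⊥) →
      ∀ T T' : Sylow 2 G, T ≠ T' → (T : Subgroup G) ⊓ (T' : Subgroup G) = E := by
    intro hS T T' hne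
    refine le_antisymm (fun x hx => ?_) (le_inf (hET T) (hET T'))
    have h1 : π x ∈ ((T.mapSurjective hπs : Sylow 2 (G ⧸ E)) : Subgroup (G ⧸ E)) ⊓
        ((T'.mapSurjective hπs : Sylow 2 (G ⧸ E)) : Subgroup (G ⧸ E)) := by
      rw [Sylow.coe_mapSurjective, Sylow.coe_mapSurjective]
      exact ⟨Subgroup.mem_map_of_mem π hx.1, Subgroup.mem_map_of_mem π hx.2⟩
    rw [hS _ _ (fun e => hne (hmapinj e)), Subgroup.mem_bot] at h1
    exact (QuotientGroup.eq_one_iff _).mp h1
  rcases hcases with ⟨hc, h60⟩ | ⟨p, c, P, hpc, hPn, hP', hQc⟩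
  · obtain ⟨hn5, h4, hint⟩ := sixty hP hc h60
    refine ⟨4, 5, ⟨hexp, hfixed, Or.inr ⟨rfl, rfl⟩, ⟨fun e => by omega, fun _ => by
      rw [hcard, h60, mul_comm]⟩, fun T => by rw [hsylcard, h4], hnum.trans hn5, hinter hint,
      ⟨hfree 5 (Or.inr rfl) (by rw [h60]; norm_num),
        fun _ => hfree 3 (Or.inl rfl) (by rw [h60]; norm_num)⟩, hcent⟩⟩
  · have hc2 : c = 2 := by
      rcases hpc with ⟨-, e⟩ | ⟨-, e⟩ | ⟨rfl, rfl⟩
      · exact e
      · exact e
      · exfalso
        obtain ⟨x, y, hx, hy4, hy2, hyx⟩ := exists_five_four hP hPn hP' hQc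
        obtain ⟨a, rfl, hao⟩ := hlift x (Or.inr hx)
        obtain ⟨s, rfl⟩ := hπs y
        apply hne
        refine eq_bot_of_five_four h E hE (a := a) (s := s) (hao.trans hx) ?_ ?_ ?_
        · exact (QuotientGroup.eq_one_iff _).mp (by show π (s ^ 4) = 1; rw [map_pow, hy4])
        · exact fun e => hy2 (by rw [← map_pow]; exact (QuotientGroup.eq_one_iff _).mpr e)
        · refine hyx.imp ?_ ?_ <;> intro e <;> refine (QuotientGroup.eq_one_iff _).mp ?_
          · show π _ = 1
            simpa [cj] using e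
          · show π _ = 1
            simpa [cj] using e
    subst hc2
    have hp35 : p = 3 ∨ p = 5 := by omega
    have hsyl2 : ∀ S : Sylow 2 (G ⧸ E), Nat.card (S : Subgroup (G ⧸ E)) = 2 := by
      intro S
      obtain ⟨n, hn⟩ := IsPGroup.iff_card.mp S.2
      have h1 : 2 ^ n ∣ 2 * p := by
        rw [mul_comm, ← hQc, ← hn]; exact Subgroup.card_subgroup_dvd_card _
      have h2' : 2 ∣ Nat.card (S : Subgroup (G ⧸ E)) := by
        simpa using S.pow_dvd_card_of_pow_dvd_card (n := 1) (by simpa using h2)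
      have : 2 ^ n ≤ 2 * p := Nat.le_of_dvd (by omega) h1
      have hn3 : n ≤ 3 := by
        by_contra hlt
        have : 2 ^ 4 ≤ 2 ^ n := Nat.pow_le_pow_right (by norm_num) (by omega)
        omega
      rw [hn] at h2' ⊢
      rcases hp35 with rfl | rfl <;> interval_cases n <;> simp_all (config := { decide := true })
    have hint : ∀ S S' : Sylow 2 (G ⧸ E), S ≠ S' →
        (S : Subgroup (G ⧸ E)) ⊓ (S' : Subgroup (G ⧸ E)) = ⊥ := by
      intro S S' hne'
      by_contra hb
      have hd := Subgroup.card_dvd_of_le (inf_le_left :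
        (S : Subgroup (G ⧸ E)) ⊓ (S' : Subgroup (G ⧸ E)) ≤ S)
      rw [hsyl2] at hd
      have h3 : Nat.card ↥((S : Subgroup (G ⧸ E)) ⊓ (S' : Subgroup (G ⧸ E))) = 2 :=
        (Nat.prime_two.eq_one_or_self_of_dvd _ hd).resolve_left
          fun e => hb (Subgroup.eq_bot_of_card_eq _ e)
      exact hne' (Sylow.ext ((Subgroup.eq_of_le_of_card_ge inf_le_left (by rw [hsyl2, h3])).symm.trans
        (Subgroup.eq_of_le_of_card_ge inf_le_right (by rw [hsyl2, h3]))))
    have hnq : Nat.card (Sylow 2 (G ⧸ E)) = p := by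
      obtain ⟨S⟩ : Nonempty (Sylow 2 (G ⧸ E)) := inferInstance
      have hd := S.card_dvd_index
      have e := (S : Subgroup (G ⧸ E)).card_mul_index
      rw [hsyl2, hQc] at e
      rw [show (S : Subgroup (G ⧸ E)).index = p by omega] at hd
      have hp : p.Prime := by rcases hp35 with rfl | rfl <;> norm_num
      refine (hp.eq_one_or_self_of_dvd _ hd).resolve_left fun e1 => ?_
      have := (Nat.card_eq_one_iff_unique.mp e1).1
      have hb := hO2 _ (Sylow.normal_of_subsingleton S) S.2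
      have := hsyl2 S
      rw [hb, Subgroup.card_bot] at this
      omega
    exact ⟨2, p, ⟨hexp, hfixed, Or.inl ⟨rfl, hp35⟩, ⟨fun _ => by rw [hcard, hQc]; ring,
      fun e => by omega⟩, fun T => by rw [hsylcard, hsyl2], hnum.trans hnq, hinter hint,
      ⟨hfree p hp35 (by rw [hQc]; exact dvd_mul_right _ _), fun e => by omega⟩, hcent⟩⟩

end Cfsg.Agent.Lib.SpecFive
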